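import Mathlib
import Cfsg.Agent.Lib.Helper54.CyclicNormal
import Cfsg.Agent.Lib.Helper54.FrobNorm

/-!
# The abelian case of Hall–Higman's Theorem B, group-theoretically (helper54)

* `exists_normalized_not_centralized_of_mem`: in a `p`-solvable group with `O_p = 1`, a
  `p`-subgroup `U` normalizes a `q`-subgroup (`q ≠ p`) not centralized by a given `1 ≠ y ∈ U`;
* `exists_normalizing_q_group_pow`: the lifted version modulo a normal `p`-subgroup `V ⊇ O_p`;
* `pow_mem_of_abelian_sylows`: if `V` is an abelian self-centralizing normal `p`-subgroup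
  containing `O_p(Y)`, the `q`-subgroups (`q ≠ p`) are abelian and all `p`-elements have order
  dividing `p ^ (n + 1)`, then `x ^ p ^ n ∈ V` for every `p`-element `x`.
-/

set_option autoImplicit false

namespace Cfsg.Agent.Lib.Helper54

open scoped commutatorElement Pointwise
open Cfsg.Agent.Lib.Helper1

/-- In a finite `p`-solvable group with `O_p = 1`, a `p`-subgroup `U` normalizes some
`q`-subgroup (`q ≠ p`) that is not centralized by a given nontrivial `y ∈ U`. -/
theorem exists_normalized_not_centralized_of_mem {X : Type*} [Group X] [Finite X] {p : ℕ}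
    [Fact p.Prime] (hsol : Cfsg.IsPSolvable p X) (hOp : Cfsg.pCore p X = ⊥) (U : Subgroup X)
    (hU : IsPGroup p U) (y : X) (hyU : y ∈ U) (hy1 : y ≠ 1) :
    ∃ (q : ℕ) (_ : q.Prime) (R : Subgroup X), q ≠ p ∧ IsPGroup q R ∧
      U ≤ Subgroup.normalizer (R : Set X) ∧ y ∉ Subgroup.centralizer (R : Set X) := by
  have hpp : p.Prime := Fact.out
  by_contra hcon
  push Not at hcon
  apply hy1
  obtain ⟨k, hk⟩ := hU ⟨y, hyU⟩
  have hyk : y ^ p ^ k = 1 := congrArg Subtype.val hk
  apply Cfsg.Agent.Lib.Helper11.eq_one_of_mem_centralizer_pPrimeCore hsol hOp y hyk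
  set N := Cfsg.pPrimeCore p X with hN
  have hNc : (Nat.card N).Coprime p := Cfsg.Agent.Lib.Helper63.card_pPrimeCore_coprime' p X
  have hNp : ¬ p ∣ Nat.card N := by
    rw [← Nat.Prime.coprime_iff_not_dvd hpp]
    exact hNc.symm
  have hUR : U ≤ Subgroup.normalizer (N : Set X) := by
    rw [Subgroup.normalizer_eq_top_iff.mpr inferInstance]
    exact le_top
  have key : N ≤ Subgroup.centralizer ({y} : Set X) := by
    apply Cfsg.Agent.Lib.Helper48.le_of_forall_sylow_le
    intro q hq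
    have : Fact q.Prime := ⟨hq⟩
    obtain ⟨Q', hQ'⟩ := Cfsg.Agent.Lib.Helper48.exists_invariant_sylow N U hU hNp hUR q
    refine ⟨Q', ?_⟩
    have hQq : IsPGroup q ((Q' : Subgroup N).map N.subtype) := Q'.isPGroup'.map _
    by_cases hqp : q = p
    · subst hqp
      have hbot : (Q' : Subgroup N) = ⊥ := by
        by_contra hne
        have h1 : Nat.card (Q' : Subgroup N) ∣ Nat.card N := Subgroup.card_subgroup_dvd_card _
        obtain ⟨j, hj⟩ := IsPGroup.iff_card.mp Q'.isPGroup'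
        rcases Nat.eq_zero_or_pos j with hj0 | hj0
        · rw [hj0, pow_zero] at hj
          exact hne (Subgroup.card_eq_one.mp hj)
        · apply hNp
          refine dvd_trans ?_ h1
          rw [hj]
          exact dvd_pow_self q hj0.ne'
      rw [hbot, Subgroup.map_bot]
      exact bot_le
    · have h1 := hcon q hq _ hqp hQq hQ'
      intro r hr
      rw [Subgroup.mem_centralizer_iff]
      intro z hz
      rw [Set.mem_singleton_iff] at hz
      subst hz
      exact (Subgroup.mem_centralizer_iff.mp h1 r hr).symm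
  rw [Subgroup.mem_centralizer_iff]
  intro n hn
  have := Subgroup.mem_centralizer_iff.mp (key hn) y (Set.mem_singleton y)
  exact this.symm

/-- In a `p`-solvable group `Y` with `O_p(Y) ≤ V` for a normal `p`-subgroup `V`, an element `a`
which is a `p`-element modulo `V` with `a ^ j ∉ V` can be modified by an element of `V` so as to
normalize a `q`-subgroup (`q ≠ p`) not centralized by the `j`-th power. -/
theorem exists_normalizing_q_group_pow.{u} {Y : Type u} [Group Y] [Finite Y] {p : ℕ}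
    [Fact p.Prime] (hsol : Cfsg.IsPSolvable p Y) (V : Subgroup Y) [hVn : V.Normal]
    (hVp : IsPGroup p V) (hcore : Cfsg.pCore p Y ≤ V) (a : Y) (k j : ℕ)
    (hak : a ^ p ^ k ∈ V) (haj : a ^ j ∉ V) :
    ∃ (q : ℕ) (_ : q.Prime) (Q : Subgroup Y) (n : Y), q ≠ p ∧ IsPGroup q Q ∧ n ∈ V ∧
      n * a ∈ Subgroup.normalizer (Q : Set Y) ∧ ∃ s ∈ Q, (n * a) ^ j * s ≠ s * (n * a) ^ j := by
  have hp : p.Prime := Fact.out
  have hsolQ : Cfsg.IsPSolvable p (Y ⧸ V) :=
    Cfsg.Agent.Lib.Helper69.isPSolvable_of_surj p (QuotientGroup.mk' V)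
      (QuotientGroup.mk'_surjective V) hsol
  have hcoreQ : Cfsg.pCore p (Y ⧸ V) = ⊥ := by
    rw [eq_bot_iff]
    have h1 : (Cfsg.pCore p (Y ⧸ V)).comap (QuotientGroup.mk' V) ≤ Cfsg.pCore p Y := by
      apply Cfsg.Agent.Lib.Helper63.le_pCore' (Subgroup.Normal.comap inferInstance _)
      apply IsPGroup.comap_of_ker_isPGroup (Cfsg.Agent.Lib.Helper63.pCore_isPGroup' p _)
      rw [QuotientGroup.ker_mk']
      exact hVp
    intro y hy
    obtain ⟨x, rfl⟩ := QuotientGroup.mk'_surjective V y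
    have h2 : x ∈ V := hcore (h1 hy)
    rw [Subgroup.mem_bot]
    exact (QuotientGroup.eq_one_iff x).2 h2
  have ha1 : (QuotientGroup.mk' V a) ^ j ≠ 1 := by
    intro h
    rw [← map_pow] at h
    exact haj ((QuotientGroup.eq_one_iff _).1 h)
  have hapow : (QuotientGroup.mk' V a) ^ p ^ k = 1 := by
    rw [← map_pow]
    exact (QuotientGroup.eq_one_iff _).2 hak
  obtain ⟨q, hq, R, hqp, hRq, hUR, haR'⟩ :=
    exists_normalized_not_centralized_of_mem hsolQ hcoreQ
      (Subgroup.zpowers (QuotientGroup.mk' V a))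
      (Cfsg.Agent.Lib.Helper11.isPGroup_zpowers_of_pow _ hapow) _
      (Subgroup.pow_mem _ (Subgroup.mem_zpowers _) j) ha1
  have haR : QuotientGroup.mk' V a ∈ Subgroup.normalizer (R : Set (Y ⧸ V)) :=
    hUR (Subgroup.mem_zpowers _)
  have : Fact q.Prime := ⟨hq⟩
  have hVZ : V ≤ R.comap (QuotientGroup.mk' V) := by
    intro v hv
    rw [Subgroup.mem_comap]
    have h1 : QuotientGroup.mk' V v = 1 := (QuotientGroup.eq_one_iff v).2 hv
    rw [h1]
    exact R.one_mem
  have hZn : R.comap (QuotientGroup.mk' V) ≤ Subgroup.normalizer (V : Set Y) := by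
    rw [Subgroup.normalizer_eq_top]
    exact le_top
  -- the relative index is a power of `q`
  obtain ⟨m, hm⟩ : ∃ m : ℕ, V.relIndex (R.comap (QuotientGroup.mk' V)) = q ^ m := by
    have hVn' : (V.subgroupOf (R.comap (QuotientGroup.mk' V))).Normal := inferInstance
    have hq' : IsPGroup q (↥(R.comap (QuotientGroup.mk' V)) ⧸
        V.subgroupOf (R.comap (QuotientGroup.mk' V))) := by
      intro y
      obtain ⟨z, rfl⟩ := QuotientGroup.mk_surjective y
      obtain ⟨k, hk⟩ := hRq ⟨QuotientGroup.mk' V (z : Y), z.2⟩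
      refine ⟨k, ?_⟩
      rw [← QuotientGroup.mk_pow, QuotientGroup.eq_one_iff, Subgroup.mem_subgroupOf]
      have h1 : (QuotientGroup.mk' V (z : Y)) ^ q ^ k = 1 := congrArg Subtype.val hk
      rw [← map_pow] at h1
      exact (QuotientGroup.eq_one_iff _).1 h1
    obtain ⟨m, hm⟩ := hq'.exists_card_eq
    exact ⟨m, by rw [← hm]; exact Subgroup.index_eq_card _⟩
  obtain ⟨r, hr⟩ := hVp.exists_card_eq
  have hpq : Nat.Coprime p q := (Nat.coprime_primes hp hq).2 (Ne.symm hqp)
  have hcop1 : (Nat.card V).Coprime (V.relIndex (R.comap (QuotientGroup.mk' V))) := by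
    rw [hr, hm]
    exact Nat.Coprime.pow r m hpq
  obtain ⟨Q, hQZ, hQcard⟩ := sz_exists_internal (R.comap (QuotientGroup.mk' V)) V hVZ hZn hcop1
  have hQq : IsPGroup q Q := IsPGroup.of_card (hQcard.trans hm)
  have hQV : Q ≤ Subgroup.normalizer (V : Set Y) := by
    rw [Subgroup.normalizer_eq_top]
    exact le_top
  have hcop2 : (Nat.card Q).Coprime (Nat.card V) := by
    rw [hQcard, hm, hr]
    exact Nat.Coprime.pow m r hpq.symm
  have hsup : V ⊔ Q = R.comap (QuotientGroup.mk' V) := by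
    apply Subgroup.eq_of_le_of_card_ge (sup_le hVZ hQZ)
    rw [card_sup_of_normalizer_coprime V Q hQV hcop2, hQcard, ← card_eq_card_mul_relIndex hVZ]
  have haZ : ∀ z ∈ R.comap (QuotientGroup.mk' V), a * z * a⁻¹ ∈ R.comap (QuotientGroup.mk' V) := by
    intro z hz
    rw [Subgroup.mem_comap] at hz ⊢
    rw [map_mul, map_mul, map_inv]
    exact (Subgroup.mem_normalizer_iff.1 haR _).1 hz
  have hVsolv : Group.IsSolvable ↥V := by
    have := hVp.isNilpotent
    exact IsNilpotent.to_isSolvable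
  have hQ1 : MulAut.conj a • Q ≤ V ⊔ Q := by
    intro y hy
    rw [mem_conj_smul] at hy
    rw [hsup]
    have h1 := haZ _ (hQZ hy)
    have e : a * (a⁻¹ * y * a) * a⁻¹ = y := by group
    rwa [e] at h1
  obtain ⟨n, hn, hconj⟩ := sz_conj_internal V Q (MulAut.conj a • Q) hQV hcop2 (Or.inr hVsolv) hQ1
    (card_conj_smul Q a)
  refine ⟨q, hq, Q, n, hqp, hQq, hn, ?_, ?_⟩
  · apply mem_normalizer_of_conj_mem
    intro s hs
    rw [← hconj, mem_conj_smul, mem_conj_smul]
    have e : a⁻¹ * (n⁻¹ * (n * a * s * (n * a)⁻¹) * n) * a = s := by group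
    rw [e]
    exact hs
  · by_contra hcon
    push Not at hcon
    apply haR'
    rw [Subgroup.mem_centralizer_iff]
    intro y hy
    obtain ⟨z, rfl⟩ := QuotientGroup.mk'_surjective V y
    have hz : z ∈ V ⊔ Q := by
      rw [hsup]
      exact hy
    obtain ⟨v, hv, s, hs, rfl⟩ := Subgroup.mem_sup_of_normal_left.1 hz
    have h1 : QuotientGroup.mk' V v = 1 := (QuotientGroup.eq_one_iff v).2 hv
    have h2 : QuotientGroup.mk' V n = 1 := (QuotientGroup.eq_one_iff n).2 hn
    have h3 := congrArg (QuotientGroup.mk' V) (hcon s hs)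
    simp only [map_mul, map_pow, h2, one_mul] at h3
    rw [map_mul, h1, one_mul]
    exact h3.symm

/-- Conjugation by powers of an element that maps `Q` into itself. -/
theorem conj_pow_mem_of_conj_mem {Y : Type*} [Group Y] (Q : Subgroup Y) (b : Y)
    (h : ∀ s ∈ Q, b * s * b⁻¹ ∈ Q) : ∀ i : ℕ, ∀ s ∈ Q, b ^ i * s * (b ^ i)⁻¹ ∈ Q := by
  intro i
  induction i with
  | zero => intro s hs; simpa using hs
  | succ i ih =>
    intro s hs
    have h1 := h _ (ih s hs)
    have e : b ^ (i + 1) * s * (b ^ (i + 1))⁻¹ = b * (b ^ i * s * (b ^ i)⁻¹) * b⁻¹ := by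
      rw [pow_succ']; group
    rw [e]; exact h1

/-- The Frobenius norm lemma for a conjugation action on a normal abelian subgroup `V`:
if all elements `b * u` (`u ∈ V`) have order dividing `N`, `R` is normalized by `b` and no
`b ^ i` (`0 < i < N`) has a nontrivial fixed point in `R`, then `R` centralizes `w ^ |R|`. -/
theorem frobenius_norm_conj {Y : Type*} [Group Y] (V : Subgroup Y) [hVn : V.Normal]
    (hVab : ∀ x ∈ V, ∀ y ∈ V, x * y = y * x) (R : Subgroup Y) [Finite R] (b : Y) (N : ℕ)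
    (hN : 0 < N) (hR : ∀ r ∈ R, ∀ i : ℕ, b ^ i * r * (b ^ i)⁻¹ ∈ R)
    (hfix : ∀ i, 0 < i → i < N → ∀ r ∈ R, r * b ^ i = b ^ i * r → r = 1)
    (hbN : b ^ N = 1) (hpow : ∀ u ∈ V, (b * u) ^ N = 1) :
    ∀ w ∈ V, ∀ r ∈ R, r * w ^ Nat.card R * r⁻¹ = w ^ Nat.card R := by
  letI : CommGroup ↥V :=
    { (inferInstance : Group ↥V) with mul_comm := fun x y => Subtype.ext (hVab x x.2 y y.2) }
  letI : MulDistribMulAction Y ↥V :=
    MulDistribMulAction.compHom ↥V (MulAut.conjNormal : Y →* MulAut ↥V)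
  have hsmul : ∀ (g : Y) (u : ↥V), ((g • u : ↥V) : Y) = g * u * g⁻¹ := fun g u => rfl
  have hcoe_mul : ∀ s t : ↥V, ((s * t : ↥V) : Y) = (s : Y) * (t : Y) := fun _ _ => rfl
  have hcoe_one : ((1 : ↥V) : Y) = 1 := rfl
  have hnorm : ∀ u : ↥V, ∏ i ∈ Finset.range N, b ^ i • u = 1 := by
    intro u
    have hind : ∀ m : ℕ, (b * (u : Y)) ^ m
        = ((∏ i ∈ Finset.range m, b ^ (i + 1) • u : ↥V) : Y) * b ^ m := by
      intro m
      induction m with
      | zero => rw [Finset.prod_range_zero, hcoe_one, pow_zero, pow_zero, one_mul]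
      | succ m ih =>
        rw [pow_succ, ih, Finset.prod_range_succ, hcoe_mul, hsmul]
        group
    have h1 := hind N
    rw [hpow u u.2, hbN, mul_one] at h1
    have h2 : (∏ i ∈ Finset.range N, b ^ (i + 1) • u : ↥V) = 1 := Subtype.ext h1.symm
    have h3 := Finset.prod_range_succ' (fun i => b ^ i • u) N
    have h4 := Finset.prod_range_succ (fun i => b ^ i • u) N
    rw [h3, h2, one_mul] at h4
    simp only [pow_zero, one_smul, hbN] at h4
    have h5 : (∏ i ∈ Finset.range N, b ^ i • u) * u = 1 * u := by rw [one_mul]; exact h4.symm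
    exact mul_right_cancel h5
  intro w hw r hr
  have h1 := frobenius_norm_smul (H := Y) (W := ↥V) R b N hN hR hfix hnorm ⟨w, hw⟩ r hr
  have h2 := congrArg Subtype.val h1
  exact h2

/-- **Abelian case of Hall–Higman's Theorem B**, in group-theoretic form.  Let `Y` be a finite
`p`-solvable group with an abelian normal `p`-subgroup `V ⊇ O_p(Y)` with `C_Y(V) ≤ V`.  If all
`q`-subgroups (`q ≠ p`) are abelian and all `p`-elements have order dividing `p ^ (n + 1)`, then
`x ^ p ^ n ∈ V` for every `p`-element `x`. -/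
theorem pow_mem_of_abelian_sylows.{u} {Y : Type u} [Group Y] [Finite Y] {p : ℕ} [Fact p.Prime]
    (hsol : Cfsg.IsPSolvable p Y) (V : Subgroup Y) [hVn : V.Normal] (hVp : IsPGroup p V)
    (hVab : ∀ x ∈ V, ∀ y ∈ V, x * y = y * x)
    (hCV : Subgroup.centralizer (V : Set Y) ≤ V) (hcore : Cfsg.pCore p Y ≤ V)
    (hab : ∀ q : ℕ, q.Prime → q ≠ p → ∀ Q : Subgroup Y, IsPGroup q Q →
      ∀ s ∈ Q, ∀ t ∈ Q, s * t = t * s)
    (n : ℕ) (hexp : ∀ g : Y, (∃ k, g ^ p ^ k = 1) → g ^ p ^ (n + 1) = 1)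
    (x : Y) (hx : ∃ k, x ^ p ^ k = 1) : x ^ p ^ n ∈ V := by
  have hp : p.Prime := Fact.out
  by_contra hxV
  obtain ⟨k, hk⟩ := hx
  obtain ⟨q, hq, Q, v, hqp, hQq, hv, hbQ, s0, hs0, hs0'⟩ :=
    exists_normalizing_q_group_pow hsol V hVp hcore x k (p ^ n)
      (by rw [hk]; exact V.one_mem) hxV
  have : Fact q.Prime := ⟨hq⟩
  obtain ⟨b, hb⟩ : ∃ b : Y, b = v * x := ⟨_, rfl⟩
  rw [← hb] at hbQ hs0'
  -- the p-group V ⊔ ⟨x⟩
  have hPp : IsPGroup p ↥(V ⊔ Subgroup.zpowers x) :=
    IsPGroup.to_sup_of_normal_left hVp (Cfsg.Agent.Lib.Helper11.isPGroup_zpowers_of_pow x hk)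
  have hpel : ∀ g ∈ V ⊔ Subgroup.zpowers x, g ^ p ^ (n + 1) = 1 := by
    intro g hg
    obtain ⟨j, hj⟩ := hPp ⟨g, hg⟩
    exact hexp g ⟨j, congrArg Subtype.val hj⟩
  have hbP : b ∈ V ⊔ Subgroup.zpowers x := by
    rw [hb]
    exact Subgroup.mul_mem _ (Subgroup.mem_sup_left hv)
      (Subgroup.mem_sup_right (Subgroup.mem_zpowers x))
  have hb1 : b ^ p ^ (n + 1) = 1 := hpel b hbP
  obtain ⟨y, hy⟩ : ∃ y : Y, y = b ^ p ^ n := ⟨_, rfl⟩
  rw [← hy] at hs0'
  have hy1 : y ≠ 1 := by
    intro h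
    apply hs0'
    rw [h, one_mul, mul_one]
  have hyp : y ^ p = 1 := by rw [hy, ← pow_mul, ← pow_succ]; exact hb1
  have hby : b * y = y * b := by rw [hy, ← pow_succ', ← pow_succ]
  -- Q is abelian
  have hQI : IsMulCommutative ↥Q :=
    ⟨⟨fun s t => Subtype.ext (hab q hq hqp Q hQq s s.2 t t.2)⟩⟩
  have hbQ' : ∀ s ∈ Q, b * s * b⁻¹ ∈ Q := fun s hs => (Subgroup.mem_normalizer_iff.1 hbQ s).1 hs
  have hbQi := conj_pow_mem_of_conj_mem Q b hbQ'
  have hyQ : Subgroup.zpowers y ≤ Subgroup.normalizer (Q : Set Y) := by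
    rw [Subgroup.zpowers_le, hy]
    exact Subgroup.pow_mem _ hbQ _
  -- coprimality
  obtain ⟨m, hm⟩ := hQq.exists_card_eq
  obtain ⟨c, hVcard⟩ := hVp.exists_card_eq
  have hpq : Nat.Coprime p q := (Nat.coprime_primes hp hq).2 (Ne.symm hqp)
  have hcardy : Nat.card (Subgroup.zpowers y) = p := by
    rw [Nat.card_zpowers]
    exact orderOf_eq_prime hyp hy1
  have hcop : (Nat.card (Subgroup.zpowers y)).Coprime (Nat.card Q) := by
    rw [hcardy, hm]
    exact Nat.Coprime.pow_right m hpq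
  have hinf := abelian_centralizer_inf_commutator (Subgroup.zpowers y) Q hyQ hcop
  obtain ⟨R, hRdef⟩ : ∃ R : Subgroup Y, R = ⁅Q, Subgroup.zpowers y⁆ := ⟨_, rfl⟩
  rw [← hRdef] at hinf
  have hRQ : R ≤ Q := by
    rw [hRdef]
    exact commutator_le_of_le_normalizer hyQ
  -- R is normalized by powers of b
  have hRi : ∀ r ∈ R, ∀ i : ℕ, b ^ i * r * (b ^ i)⁻¹ ∈ R := by
    intro r hr i
    rw [hRdef] at hr ⊢
    refine conj_mem_commutator (hbQi i) ?_ r hr
    intro d hd
    obtain ⟨j, rfl⟩ := Subgroup.mem_zpowers_iff.1 hd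
    have hcomm : Commute (b ^ i) (y ^ j) := ((show Commute b y from hby).pow_left i).zpow_right j
    have e : b ^ i * y ^ j * (b ^ i)⁻¹ = y ^ j := by
      rw [hcomm.eq, mul_inv_cancel_right]
    rw [e]
    exact hd
  -- fixed points
  have hfix : ∀ i, 0 < i → i < p ^ (n + 1) → ∀ r ∈ R, r * b ^ i = b ^ i * r → r = 1 := by
    intro i hi0 hilt r hr hcomm
    have hyi : y ∈ Subgroup.zpowers (b ^ i) := by
      have hg : b ^ (Nat.gcd i (p ^ (n + 1))) ∈ Subgroup.zpowers (b ^ i) := by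
        rw [Subgroup.mem_zpowers_iff]
        refine ⟨Nat.gcdA i (p ^ (n + 1)), ?_⟩
        have h1 := Nat.gcd_eq_gcd_ab i (p ^ (n + 1))
        rw [← zpow_natCast b (Nat.gcd i (p ^ (n + 1))), h1, zpow_add, zpow_mul, zpow_mul,
          zpow_natCast, zpow_natCast, hb1, one_zpow, mul_one]
      obtain ⟨a, ha, hga⟩ := (Nat.dvd_prime_pow hp).1 (Nat.gcd_dvd_right i (p ^ (n + 1)))
      have han : a ≤ n := by
        by_contra hcon
        have ha' : a = n + 1 := by omega
        rw [ha'] at hga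
        have hdvd : p ^ (n + 1) ∣ i := hga ▸ Nat.gcd_dvd_left i (p ^ (n + 1))
        exact absurd (Nat.le_of_dvd hi0 hdvd) (by omega)
      rw [hga] at hg
      have e : y = (b ^ p ^ a) ^ p ^ (n - a) := by
        rw [hy, ← pow_mul, ← pow_add, Nat.add_sub_cancel' han]
      rw [e]
      exact Subgroup.pow_mem _ hg _
    have hry : r * y = y * r := by
      obtain ⟨j, hj⟩ := Subgroup.mem_zpowers_iff.1 hyi
      rw [← hj]
      exact ((show Commute r (b ^ i) from hcomm).zpow_right j).eq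
    have hrc : r ∈ Subgroup.centralizer (Subgroup.zpowers y : Set Y) := by
      rw [Subgroup.mem_centralizer_iff]
      intro d hd
      obtain ⟨j, rfl⟩ := Subgroup.mem_zpowers_iff.1 hd
      exact ((show Commute r y from hry).zpow_right j).eq.symm
    have h1 : r ∈ (Q ⊓ Subgroup.centralizer (Subgroup.zpowers y : Set Y)) ⊓ R :=
      Subgroup.mem_inf.2 ⟨Subgroup.mem_inf.2 ⟨hRQ hr, hrc⟩, hr⟩
    rw [hinf] at h1
    exact Subgroup.mem_bot.1 h1
  -- the norm lemma
  have hkey := frobenius_norm_conj V hVab R b (p ^ (n + 1)) (pow_pos hp.pos _) hRi hfix hb1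
    (by
      intro u hu
      apply hpel
      exact Subgroup.mul_mem _ hbP (Subgroup.mem_sup_left hu))
  -- R centralizes V
  obtain ⟨t, ht⟩ := (hQq.to_le hRQ).exists_card_eq
  have hRV : R ≤ V := by
    refine le_trans ?_ hCV
    intro r hr
    rw [Subgroup.mem_centralizer_iff]
    intro w hw
    have h1 := hkey w hw r hr
    have hcopw : (Nat.card R).Coprime (orderOf w) := by
      obtain ⟨j, hj⟩ := hVp ⟨w, hw⟩
      have hj' : w ^ p ^ j = 1 := congrArg Subtype.val hj
      have hdvd : orderOf w ∣ p ^ j := orderOf_dvd_of_pow_eq_one hj'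
      rw [ht]
      exact Nat.Coprime.coprime_dvd_right hdvd (Nat.Coprime.pow t j hpq.symm)
    obtain ⟨e, he⟩ := exists_pow_eq_self_of_coprime hcopw
    have h2 : Commute r (w ^ Nat.card R) := by
      show r * w ^ Nat.card R = w ^ Nat.card R * r
      calc r * w ^ Nat.card R = (r * w ^ Nat.card R * r⁻¹) * r := by group
        _ = w ^ Nat.card R * r := by rw [h1]
    have h3 := h2.pow_right e
    rw [he] at h3
    exact h3.eq.symm
  have hRbot : R = ⊥ := by
    rw [eq_bot_iff]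
    intro r hr
    have hcop2 : (Nat.card Q).Coprime (Nat.card V) := by
      rw [hm, hVcard]
      exact Nat.Coprime.pow m c hpq.symm
    exact Subgroup.mem_bot.2 (eq_one_of_mem_of_coprime hcop2 (hRQ hr) (hRV hr))
  apply hs0'
  have h1 : ⁅s0, y⁆ ∈ R := by
    rw [hRdef]
    exact Subgroup.commutator_mem_commutator hs0 (Subgroup.mem_zpowers y)
  rw [hRbot, Subgroup.mem_bot, commutatorElement_eq_one_iff_commute] at h1
  exact h1.eq.symm

end Cfsg.Agent.Lib.Helper54
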