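import Mathlib
import Cfsg.Agent.S3879
import Cfsg.Agent.S3882
import Cfsg.Agent.Lib.Helper2.Class2
import Cfsg.Agent.Lib.Helper68.Metacyclic2
import Cfsg.Agent.Lib.Helper1.Commutator
import Cfsg.Agent.Lib.Helper61.CoprimeAb

/-!
Coprime action on a metacyclic `p`-group, `p` odd: if `K = [K, A]` then `K` is abelian.
-/

set_option autoImplicit false

namespace Cfsg.Agent.Lib.Helper54

open scoped commutatorElement

section classTwo

variable {K : Type*} [Group K]

theorem c2_mul_left (hc : ∀ x y : K, ⁅x, y⁆ ∈ Subgroup.center K) (x y w : K) :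
    ⁅x * y, w⁆ = ⁅x, w⁆ * ⁅y, w⁆ := by
  have h1 := Subgroup.mem_center_iff.1 (hc y w) x
  calc ⁅x * y, w⁆ = x * ⁅y, w⁆ * (w * x⁻¹ * w⁻¹) := by
        rw [commutatorElement_def, commutatorElement_def]; group
    _ = ⁅y, w⁆ * x * (w * x⁻¹ * w⁻¹) := by rw [h1]
    _ = ⁅y, w⁆ * ⁅x, w⁆ := by rw [commutatorElement_def x w]; group
    _ = ⁅x, w⁆ * ⁅y, w⁆ := (Subgroup.mem_center_iff.1 (hc y w) _).symm

theorem c2_mul_right (hc : ∀ x y : K, ⁅x, y⁆ ∈ Subgroup.center K) (x y w : K) :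
    ⁅x, y * w⁆ = ⁅x, y⁆ * ⁅x, w⁆ := by
  have h1 := Subgroup.mem_center_iff.1 (hc x w) y
  calc ⁅x, y * w⁆ = x * y * x⁻¹ * ⁅x, w⁆ * y⁻¹ := by
        rw [commutatorElement_def, commutatorElement_def]; group
    _ = x * y * x⁻¹ * (⁅x, w⁆ * y⁻¹) := by group
    _ = x * y * x⁻¹ * (y⁻¹ * ⁅x, w⁆) := by
        congr 1
        have h2 := Subgroup.mem_center_iff.1 (hc x w) y⁻¹
        exact h2.symm
    _ = ⁅x, y⁆ * ⁅x, w⁆ := by rw [commutatorElement_def x y]; group

theorem c2_pow_left (hc : ∀ x y : K, ⁅x, y⁆ ∈ Subgroup.center K) (x y : K) (n : ℕ) :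
    ⁅x ^ n, y⁆ = ⁅x, y⁆ ^ n := by
  induction n with
  | zero => simp [commutatorElement_def]
  | succ n ih => rw [pow_succ, c2_mul_left hc, ih, pow_succ]

theorem c2_pow_right (hc : ∀ x y : K, ⁅x, y⁆ ∈ Subgroup.center K) (x y : K) (n : ℕ) :
    ⁅x, y ^ n⁆ = ⁅x, y⁆ ^ n := by
  induction n with
  | zero => simp [commutatorElement_def]
  | succ n ih => rw [pow_succ, c2_mul_right hc, ih, pow_succ]

theorem c2_inv_right (hc : ∀ x y : K, ⁅x, y⁆ ∈ Subgroup.center K) (x y : K) :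
    ⁅x, y⁻¹⁆ = ⁅x, y⁆⁻¹ := by
  have h1 := c2_mul_right hc x y y⁻¹
  rw [mul_inv_cancel] at h1
  have h2 : ⁅x, (1 : K)⁆ = 1 := by simp [commutatorElement_def]
  rw [h2] at h1
  exact eq_inv_of_mul_eq_one_right h1.symm

theorem c2_central_left {c : K} (hcc : c ∈ Subgroup.center K) (y : K) : ⁅c, y⁆ = 1 := by
  rw [commutatorElement_eq_one_iff_commute]
  exact (Subgroup.mem_center_iff.1 hcc y).symm

theorem c2_central_right {c : K} (hcc : c ∈ Subgroup.center K) (x : K) : ⁅x, c⁆ = 1 := by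
  rw [commutatorElement_eq_one_iff_commute]
  exact Subgroup.mem_center_iff.1 hcc x

theorem eq_one_of_pow_pow_coprime {x : K} {a b : ℕ} (ha : x ^ a = 1) (hb : x ^ b = 1)
    (hab : a.Coprime b) : x = 1 := by
  have h1 : orderOf x ∣ a := orderOf_dvd_of_pow_eq_one ha
  have h2 : orderOf x ∣ b := orderOf_dvd_of_pow_eq_one hb
  have h3 : orderOf x ∣ Nat.gcd a b := Nat.dvd_gcd h1 h2
  rw [hab] at h3
  exact orderOf_eq_one_iff.1 (Nat.dvd_one.1 h3)

end classTwo

/-- Elements of `U` modulo a normal subgroup `Z` of prime relative index are powers of any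
element outside `Z`. -/
theorem exists_pow_mul_of_relIndex_prime {K : Type*} [Group K] [Finite K] {p : ℕ}
    [Fact p.Prime] (Z U : Subgroup K) [Z.Normal] (h : Z.relIndex U = p) {u : K}
    (huU : u ∈ U) (huZ : u ∉ Z) : ∀ x ∈ U, ∃ s : ℕ, ∃ c ∈ Z, x = u ^ s * c := by
  intro x hx
  have hcard : Nat.card (↥U ⧸ Z.subgroupOf U) = p := by
    rw [← Subgroup.index_eq_card]
    exact h
  have hne : ((⟨u, huU⟩ : U) : ↥U ⧸ Z.subgroupOf U) ≠ 1 := by
    intro h1
    rw [QuotientGroup.eq_one_iff] at h1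
    exact huZ h1
  have htop := zpowers_eq_top_of_prime_card hcard hne
  have h1 : ((⟨x, hx⟩ : U) : ↥U ⧸ Z.subgroupOf U) ∈
      Subgroup.zpowers ((⟨u, huU⟩ : U) : ↥U ⧸ Z.subgroupOf U) := by
    rw [htop]
    exact Subgroup.mem_top _
  rw [← mem_powers_iff_mem_zpowers] at h1
  obtain ⟨s, hs⟩ := (Submonoid.mem_powers_iff _ _).1 h1
  refine ⟨s, (u ^ s)⁻¹ * x, ?_, by group⟩
  have h2 : (((⟨u, huU⟩ : U) ^ s)⁻¹ * (⟨x, hx⟩ : U) : ↥U) ∈ Z.subgroupOf U := by
    rw [← QuotientGroup.eq_one_iff, QuotientGroup.mk_mul, QuotientGroup.mk_inv,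
      QuotientGroup.mk_pow, hs, inv_mul_cancel]
  exact h2

/-- Endgame: a metacyclic `p`-group `K` (`p` odd) of class two with `|K'| = p` admits no family
of automorphisms having the two consequences of a coprime action with `[K, A] = K`. -/
theorem metacyclic_endgame.{u, v} {K : Type u} [Group K] [Finite K] {p : ℕ} [Fact p.Prime]
    (hp2 : p ≠ 2) (hK : IsPGroup p K) (hm : Cfsg.IsMetacyclic K)
    (hcl : commutator K ≤ Subgroup.center K) (z : K) (hz : commutator K = Subgroup.zpowers z)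
    (hzp : z ^ p = 1) (hz1 : z ≠ 1) {ι : Type v} (φ : ι → MulAut K)
    (hP1 : ∀ T : Subgroup K, (∀ (i : ι) (x : K), x⁻¹ * φ i x ∈ T) → T = ⊤)
    (hP2 : ∀ w : K, (∀ i : ι, w⁻¹ * φ i w ∈ Subgroup.center K) → w ∈ Subgroup.center K) :
    False := by
  have hp : p.Prime := Fact.out
  have hcz : ∀ x y : K, ⁅x, y⁆ ∈ Subgroup.zpowers z := by
    intro x y
    rw [← hz, commutator_def]
    exact Subgroup.commutator_mem_commutator (Subgroup.mem_top x) (Subgroup.mem_top y)
  have hc : ∀ x y : K, ⁅x, y⁆ ∈ Subgroup.center K := fun x y => hcl (hz ▸ hcz x y)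
  have hzpow : ∀ v ∈ Subgroup.zpowers z, v ^ p = 1 := by
    intro v hv
    obtain ⟨k, rfl⟩ := Subgroup.mem_zpowers_iff.1 hv
    rw [← zpow_natCast, ← zpow_mul, mul_comm, zpow_mul, zpow_natCast, hzp, one_zpow]
  have hpow1 : ∀ x y : K, (x * y) ^ p = x ^ p * y ^ p := fun x y =>
    Cfsg.Agent.Lib.Helper2.mul_pow_prime_of_commutator_central hp hp2 x y (hc y x)
      (hzpow _ (hcz y x))
  have hpowj : ∀ (j : ℕ) (x y : K), (x * y) ^ p ^ j = x ^ p ^ j * y ^ p ^ j := by
    intro j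
    induction j with
    | zero => intro x y; simp
    | succ j ih =>
      intro x y
      rw [pow_succ, pow_mul', pow_mul', pow_mul', hpow1, ih]
  have hpc : ∀ x : K, x ^ p ∈ Subgroup.center K := by
    intro x
    rw [Subgroup.mem_center_iff]
    intro g
    have h1 : ⁅x ^ p, g⁆ = 1 := by
      rw [c2_pow_left hc, hzpow _ (hcz x g)]
    exact ((commutatorElement_eq_one_iff_commute.1 h1).eq).symm
  have hcardc : Nat.card (commutator K) = p ^ 1 := by
    rw [hz, Nat.card_zpowers, pow_one]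
    exact orderOf_eq_prime hzp hz1
  have hcen : ∀ c ∈ Subgroup.center K, ∃ y : K, y ^ p = c := by
    intro c hcc
    have h1 := (Cfsg.Agent.S3882.result hp2 hK hm 1 hcardc 1 le_rfl c).2
    rw [← h1] at hcc
    induction hcc using Subgroup.closure_induction with
    | mem a ha =>
      obtain ⟨y, hy⟩ := ha
      exact ⟨y, by rw [← hy, pow_one]⟩
    | one => exact ⟨1, one_pow p⟩
    | mul a b _ _ ha hb =>
      obtain ⟨y1, rfl⟩ := ha
      obtain ⟨y2, rfl⟩ := hb
      exact ⟨y1 * y2, hpow1 y1 y2⟩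
    | inv a _ ha =>
      obtain ⟨y, rfl⟩ := ha
      exact ⟨y⁻¹, inv_pow y p⟩
  have hidx : (Subgroup.center K).index = p ^ 2 := by
    rw [Cfsg.Agent.S3879.result hp2 hK hm, hcardc, pow_one]
  -- the invariance computation
  have hinv : ∀ (i : ι) (k : ℕ) (d : K), (∀ v ∈ Subgroup.zpowers z, φ i v = v ^ k) →
      k.Coprime p → (d ^ k)⁻¹ * φ i d ∈ Subgroup.center K → ∀ x : K, ⁅d, φ i x⁆ = ⁅d, x⁆ := by
    intro i k d hk1 hk2 hω x
    obtain ⟨ω, hω', hφd⟩ : ∃ ω ∈ Subgroup.center K, φ i d = d ^ k * ω :=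
      ⟨_, hω, by group⟩
    have h1 : φ i ⁅d, x⁆ = ⁅d, x⁆ ^ k := hk1 _ (hcz d x)
    have h2 : φ i ⁅d, x⁆ = ⁅d, φ i x⁆ ^ k := by
      rw [map_commutatorElement, hφd, c2_mul_left hc, c2_central_left hω', mul_one,
        c2_pow_left hc]
    have h3 : (⁅d, φ i x⁆ * ⁅d, x⁆⁻¹) ^ k = 1 := by
      have hcm : Commute ⁅d, φ i x⁆ ⁅d, x⁆⁻¹ :=
        (Subgroup.mem_center_iff.1 (hc d (φ i x)) _).symm
      rw [hcm.mul_pow, inv_pow, ← h2, h1, mul_inv_cancel]
    have h4 : (⁅d, φ i x⁆ * ⁅d, x⁆⁻¹) ^ p = 1 :=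
      hzpow _ (Subgroup.mul_mem _ (hcz _ _) (Subgroup.inv_mem _ (hcz _ _)))
    exact mul_inv_eq_one.1 (eq_one_of_pow_pow_coprime h3 h4 hk2)
  -- the largest `j` with `z` a `p ^ j`-th power
  have hex : ∃ j : ℕ, ¬ ∃ e : K, e ^ p ^ j = z := by
    obtain ⟨r, hr⟩ := hK.exists_card_eq
    refine ⟨r, ?_⟩
    rintro ⟨e, he⟩
    rw [← hr, pow_card_eq_one'] at he
    exact hz1 he.symm
  classical
  have hj0 : Nat.find hex ≠ 0 := by
    intro h0
    have h1 := Nat.find_spec hex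
    rw [h0] at h1
    exact h1 ⟨z, by simp⟩
  obtain ⟨j, hj⟩ := Nat.exists_eq_succ_of_ne_zero hj0
  have hjex : ∃ e : K, e ^ p ^ j = z := by
    by_contra hcon
    have := Nat.find_min' hex hcon
    omega
  have hjmax : ¬ ∃ e : K, e ^ p ^ (j + 1) = z := by
    have h1 := Nat.find_spec hex
    rwa [hj] at h1
  obtain ⟨e, he⟩ := hjex
  let P : K →* K := MonoidHom.mk' (fun x => x ^ p ^ j) (hpowj j)
  have hPapp : ∀ x, P x = x ^ p ^ j := fun x => rfl
  have hΩU : P.ker ≤ P.ker ⊔ Subgroup.center K := le_sup_left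
  have hZU : Subgroup.center K ≤ P.ker ⊔ Subgroup.center K := le_sup_right
  have heU : e ∉ P.ker ⊔ Subgroup.center K := by
    intro heU
    have h1 : e ∈ ((P.ker ⊔ Subgroup.center K : Subgroup K) : Set K) := heU
    rw [Subgroup.normal_mul] at h1
    obtain ⟨ω, hω, c, hcZ, rfl⟩ := Set.mem_mul.1 h1
    obtain ⟨y, rfl⟩ := hcen c hcZ
    apply hjmax
    refine ⟨y, ?_⟩
    have h2 : (ω * y ^ p) ^ p ^ j = z := he
    rw [hpowj, (show ω ^ p ^ j = 1 from MonoidHom.mem_ker.1 hω), one_mul, ← pow_mul] at h2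
    rw [pow_succ']
    exact h2
  have hkey : ∀ i : ι, ∃ k : ℕ, (∀ v ∈ Subgroup.zpowers z, φ i v = v ^ k) ∧ k.Coprime p ∧
      (e ^ k)⁻¹ * φ i e ∈ P.ker := by
    intro i
    have h1 : φ i z ∈ Subgroup.zpowers z := by
      rw [← hz]
      have hchar : (commutator K).Characteristic := inferInstance
      have h2 := (Subgroup.characteristic_iff_map_le.1 hchar) (φ i)
      apply h2
      exact ⟨z, hz ▸ Subgroup.mem_zpowers z, rfl⟩
    rw [← mem_powers_iff_mem_zpowers] at h1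
    obtain ⟨k, hk⟩ := (Submonoid.mem_powers_iff _ _).1 h1
    have hkp : k.Coprime p := by
      rw [Nat.coprime_comm, Nat.Prime.coprime_iff_not_dvd hp]
      rintro ⟨d, rfl⟩
      rw [pow_mul, hzp, one_pow] at hk
      have : φ i z = φ i 1 := by rw [← hk, map_one]
      exact hz1 ((φ i).injective this)
    refine ⟨k, ?_, hkp, ?_⟩
    · intro v hv
      obtain ⟨m, rfl⟩ := Subgroup.mem_zpowers_iff.1 hv
      rw [map_zpow, ← hk, ← zpow_natCast, ← zpow_natCast, ← zpow_mul, ← zpow_mul, mul_comm]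
    · rw [MonoidHom.mem_ker, hPapp, hpowj, inv_pow, ← map_pow, he, ← hk, ← pow_mul,
        mul_comm k (p ^ j), pow_mul, he, inv_mul_cancel]
  have hrel := Subgroup.relIndex_mul_index hZU
  rw [hidx] at hrel
  have hdvd : (Subgroup.center K).relIndex (P.ker ⊔ Subgroup.center K) ∣ p ^ 2 :=
    Dvd.intro _ hrel
  obtain ⟨t, ht, hrt⟩ := (Nat.dvd_prime_pow hp).1 hdvd
  have hUtop : (P.ker ⊔ Subgroup.center K).index ≠ 1 := by
    intro h1
    rw [Subgroup.index_eq_one] at h1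
    exact heU (h1 ▸ Subgroup.mem_top e)
  interval_cases t
  · -- `Ω ≤ Z`: then `e` is central
    rw [pow_zero, Subgroup.relIndex_eq_one] at hrt
    apply heU
    apply hZU
    have hT := hP1 (Subgroup.centralizer {e}) (by
      intro i x
      obtain ⟨k, hk1, hk2, hk3⟩ := hkey i
      have h1 := hinv i k e hk1 hk2 (hrt (hΩU hk3)) x
      rw [Subgroup.mem_centralizer_iff]
      intro y hy
      rw [Set.mem_singleton_iff] at hy
      have h2 : ⁅e, x⁻¹ * φ i x⁆ = 1 := by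
        rw [c2_mul_right hc, c2_inv_right hc, h1, inv_mul_cancel]
      rw [hy]
      exact (commutatorElement_eq_one_iff_commute.1 h2).eq)
    rw [Subgroup.mem_center_iff]
    intro g
    have : g ∈ Subgroup.centralizer {e} := hT ▸ Subgroup.mem_top g
    rw [Subgroup.mem_centralizer_iff] at this
    exact (this e rfl).symm
  · -- `|U : Z| = p`
    rw [pow_one] at hrt
    have hUidx : (P.ker ⊔ Subgroup.center K).index = p := by
      rw [hrt] at hrel
      have : p * (P.ker ⊔ Subgroup.center K).index = p * p := by rw [hrel]; ring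
      exact Nat.eq_of_mul_eq_mul_left hp.pos this
    have hexu : ∃ u ∈ P.ker, u ∉ Subgroup.center K := by
      by_contra hcon
      push Not at hcon
      have hUZ : P.ker ⊔ Subgroup.center K ≤ Subgroup.center K := sup_le hcon le_rfl
      have := Subgroup.relIndex_eq_one.2 hUZ
      rw [hrt] at this
      exact hp.one_lt.ne' this
    obtain ⟨u, huΩ, huZ⟩ := hexu
    have huU : u ∈ P.ker ⊔ Subgroup.center K := hΩU huΩ
    have hdec := exists_pow_mul_of_relIndex_prime (Subgroup.center K)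
      (P.ker ⊔ Subgroup.center K) hrt huU huZ
    have hUu : ∀ x ∈ P.ker ⊔ Subgroup.center K, Commute x u := by
      intro x hx
      obtain ⟨s, c, hcZ, rfl⟩ := hdec x hx
      have h1 : Commute c u := (Subgroup.mem_center_iff.1 hcZ u).symm
      exact ((Commute.refl u).pow_left s).mul_left h1
    have hv1 : ⁅e, u⁆ ≠ 1 := by
      intro h1
      rw [commutatorElement_eq_one_iff_commute] at h1
      have hUT : P.ker ⊔ Subgroup.center K ≤ Subgroup.centralizer {u} := by
        intro x hx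
        rw [Subgroup.mem_centralizer_iff]
        intro y hy
        rw [Set.mem_singleton_iff] at hy
        rw [hy]
        exact (hUu x hx).eq.symm
      have heT : e ∈ Subgroup.centralizer {u} := by
        rw [Subgroup.mem_centralizer_iff]
        intro y hy
        rw [Set.mem_singleton_iff] at hy
        rw [hy]
        exact h1.eq.symm
      have h2 := Subgroup.relIndex_mul_index hUT
      rw [hUidx] at h2
      have h3 : (P.ker ⊔ Subgroup.center K).relIndex (Subgroup.centralizer {u}) ≠ 1 := by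
        rw [Ne, Subgroup.relIndex_eq_one]
        intro h4
        exact heU (h4 heT)
      have h5 : (Subgroup.centralizer {u}).index = 1 := by
        rcases (Nat.dvd_prime hp).1 (Dvd.intro _ h2) with h6 | h6
        · exact absurd h6 h3
        · rw [h6] at h2
          exact Nat.eq_of_mul_eq_mul_left hp.pos (by rw [h2, mul_one])
      rw [Subgroup.index_eq_one] at h5
      apply huZ
      rw [Subgroup.mem_center_iff]
      intro g
      have : g ∈ Subgroup.centralizer {u} := h5 ▸ Subgroup.mem_top g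
      rw [Subgroup.mem_centralizer_iff] at this
      exact (this u rfl).symm
    apply huZ
    apply hP2
    intro i
    obtain ⟨k, hk1, hk2, hk3⟩ := hkey i
    have hφu : φ i u ∈ P.ker ⊔ Subgroup.center K := by
      apply hΩU
      rw [MonoidHom.mem_ker, hPapp, ← map_pow, ← hPapp, MonoidHom.mem_ker.1 huΩ, map_one]
    obtain ⟨s, c, hcZ, hs⟩ := hdec _ hφu
    obtain ⟨ω, hωU, hφe⟩ : ∃ ω ∈ P.ker ⊔ Subgroup.center K, φ i e = e ^ k * ω :=
      ⟨_, hΩU hk3, by group⟩
    have hωu : Commute ω u := hUu ω hωU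
    have h1 : φ i ⁅e, u⁆ = ⁅e, u⁆ ^ k := hk1 _ (hcz e u)
    have h2 : φ i ⁅e, u⁆ = ⁅e, u⁆ ^ (k * s) := by
      rw [map_commutatorElement, hφe, hs, c2_mul_left hc, c2_mul_right hc (e ^ k),
        c2_mul_right hc ω, c2_central_right hcZ (e ^ k), c2_central_right hcZ ω, mul_one,
        mul_one, c2_pow_left hc e, c2_pow_right hc e u s, c2_pow_right hc ω u s,
        commutatorElement_eq_one_iff_commute.2 hωu, one_pow, mul_one, ← pow_mul,
        mul_comm s k]
    have h3 : ⁅e, u⁆ ^ k = ⁅e, u⁆ ^ (k * s) := h1.symm.trans h2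
    have hvp : ⁅e, u⁆ ^ p = 1 := hzpow _ (hcz e u)
    have hord : orderOf ⁅e, u⁆ = p := orderOf_eq_prime hvp hv1
    rw [pow_eq_pow_iff_modEq, hord] at h3
    have h4 : 1 ≡ s [MOD p] := by
      apply Nat.ModEq.cancel_left_of_coprime (c := k) _ (by rw [mul_one]; exact h3)
      rw [Nat.gcd_comm]
      exact hk2
    have h5 : s % p = 1 := by
      have h6 := h4.symm
      rw [Nat.ModEq, Nat.mod_eq_of_lt hp.one_lt] at h6
      exact h6
    obtain ⟨q, rfl⟩ : ∃ q, s = p * q + 1 := ⟨s / p, by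
      have := Nat.div_add_mod s p
      omega⟩
    have h7 : u⁻¹ * φ i u = (u ^ p) ^ q * c := by
      rw [hs, ← pow_mul]
      group
    rw [h7]
    exact Subgroup.mul_mem _ (Subgroup.pow_mem _ (hpc u) q) hcZ
  · rw [hrt] at hrel
    have : (P.ker ⊔ Subgroup.center K).index = 1 := by
      have h1 : p ^ 2 * (P.ker ⊔ Subgroup.center K).index = p ^ 2 * 1 := by rw [hrel, mul_one]
      exact Nat.eq_of_mul_eq_mul_left (pow_pos hp.pos 2) h1
    exact hUtop this

/-- A surjective image of a metacyclic group is metacyclic. -/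
theorem isMetacyclic_of_surjective {G H : Type*} [Group G] [Group H] (f : G →* H)
    (hf : Function.Surjective f) (hm : Cfsg.IsMetacyclic G) : Cfsg.IsMetacyclic H := by
  obtain ⟨N, hNn, hNc, hQc⟩ := hm
  have hn' : (N.map f).Normal := hNn.map f hf
  refine ⟨N.map f, hn', ?_, ?_⟩
  · exact isCyclic_of_surjective (f.subgroupMap N) (f.subgroupMap_surjective N)
  · have hle : N ≤ (N.map f).comap f := Subgroup.le_comap_map f N
    refine isCyclic_of_surjective (QuotientGroup.map N (N.map f) f hle) ?_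
    intro q
    obtain ⟨h, rfl⟩ := QuotientGroup.mk_surjective q
    obtain ⟨g, rfl⟩ := hf h
    exact ⟨(g : G ⧸ N), rfl⟩

/-- A subgroup of a metacyclic `p`-subgroup (`p` odd) is metacyclic. -/
theorem isMetacyclic_of_le {G : Type*} [Group G] [Finite G] {p : ℕ} [Fact p.Prime] (hp2 : p ≠ 2)
    {R K : Subgroup G} (hR : IsPGroup p R) (hm : Cfsg.IsMetacyclic ↥R) (hKR : K ≤ R) :
    Cfsg.IsMetacyclic ↥K := by
  have hp : p.Prime := Fact.out
  obtain ⟨a, b, m, J, d, e, h⟩ := Cfsg.Agent.Lib.Helper68.exists_MC hR hm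
  obtain ⟨u, v, _, _, _, hmc, _⟩ := h.sub_data hp hp2 (K.subgroupOf R)
  exact isMetacyclic_of_surjective (Subgroup.subgroupOfEquivOfLe hKR).toMonoidHom
    (Subgroup.subgroupOfEquivOfLe hKR).surjective hmc

/-- The case `|K'| = p`, `K` normal. -/
theorem metacyclic_coprime_aux.{u} {G : Type u} [Group G] [Finite G] {p : ℕ} [Fact p.Prime]
    (hp2 : p ≠ 2) (K A : Subgroup G) [hKn : K.Normal] (hK : IsPGroup p K)
    (hm : Cfsg.IsMetacyclic ↥K) (hcop : (Nat.card A).Coprime p) (hKA : ⁅K, A⁆ = K)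
    (z : G) (hz : ⁅K, K⁆ = Subgroup.zpowers z) (hzp : z ^ p = 1) (hz1 : z ≠ 1) : False := by
  have hp : p.Prime := Fact.out
  have hzK : z ∈ K := Subgroup.commutator_le_right K K (hz ▸ Subgroup.mem_zpowers z)
  have hzn : (Subgroup.zpowers z).Normal := hz ▸ Subgroup.commutator_normal K K
  have hconj : ∀ g : G, ∃ i : ℤ, g * z * g⁻¹ = z ^ i := by
    intro g
    obtain ⟨i, hi⟩ := Subgroup.mem_zpowers_iff.1 (hzn.conj_mem z (Subgroup.mem_zpowers z) g)
    exact ⟨i, hi.symm⟩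
  have hKz : ∀ x ∈ K, x * z = z * x := by
    have h1 : ⁅K, A⁆ ≤ Subgroup.centralizer {z} := by
      rw [Subgroup.commutator_le]
      intro x _ a _
      obtain ⟨i, hi⟩ := hconj x⁻¹
      obtain ⟨j, hj⟩ := hconj a⁻¹
      rw [Subgroup.mem_centralizer_iff]
      intro y hy
      rw [Set.mem_singleton_iff] at hy
      rw [hy]
      have e1 : (x⁻¹ * a⁻¹) * z * (x⁻¹ * a⁻¹)⁻¹ = z ^ (j * i) := by
        calc (x⁻¹ * a⁻¹) * z * (x⁻¹ * a⁻¹)⁻¹ = x⁻¹ * (a⁻¹ * z * a⁻¹⁻¹) * x⁻¹⁻¹ := by group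
          _ = x⁻¹ * z ^ j * x⁻¹⁻¹ := by rw [hj]
          _ = (x⁻¹ * z * x⁻¹⁻¹) ^ j := conj_zpow.symm
          _ = z ^ (i * j) := by rw [hi, ← zpow_mul]
          _ = z ^ (j * i) := by rw [mul_comm]
      have e2 : (a⁻¹ * x⁻¹) * z * (a⁻¹ * x⁻¹)⁻¹ = z ^ (j * i) := by
        calc (a⁻¹ * x⁻¹) * z * (a⁻¹ * x⁻¹)⁻¹ = a⁻¹ * (x⁻¹ * z * x⁻¹⁻¹) * a⁻¹⁻¹ := by group
          _ = a⁻¹ * z ^ i * a⁻¹⁻¹ := by rw [hi]
          _ = (a⁻¹ * z * a⁻¹⁻¹) ^ i := conj_zpow.symm
          _ = z ^ (j * i) := by rw [hj, ← zpow_mul]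
      have e3 : ⁅x, a⁆ = (a⁻¹ * x⁻¹)⁻¹ * (x⁻¹ * a⁻¹) := by rw [commutatorElement_def]; group
      rw [e3]
      have e4 : (x⁻¹ * a⁻¹) * z * (x⁻¹ * a⁻¹)⁻¹ = (a⁻¹ * x⁻¹) * z * (a⁻¹ * x⁻¹)⁻¹ :=
        e1.trans e2.symm
      generalize x⁻¹ * a⁻¹ = w at e4 ⊢
      generalize a⁻¹ * x⁻¹ = v at e4 ⊢
      have e5 : z = v⁻¹ * (w * z * w⁻¹) * v := by rw [e4]; group
      calc z * (v⁻¹ * w) = v⁻¹ * (w * z * w⁻¹) * v * (v⁻¹ * w) := by rw [← e5]
        _ = v⁻¹ * w * z := by group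
    intro x hx
    have h2 : x ∈ Subgroup.centralizer {z} := h1 (hKA.symm ▸ hx)
    rw [Subgroup.mem_centralizer_iff] at h2
    exact (h2 z rfl).symm
  have hcomm' : commutator ↥K = Subgroup.zpowers (⟨z, hzK⟩ : ↥K) := by
    apply Subgroup.map_injective K.subtype_injective
    rw [Subgroup.map_subtype_commutator, MonoidHom.map_zpowers, hz]
    rfl
  have hcl : commutator ↥K ≤ Subgroup.center ↥K := by
    rw [hcomm', Subgroup.zpowers_le, Subgroup.mem_center_iff]
    intro g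
    exact Subtype.ext (hKz g g.2)
  have hzp' : (⟨z, hzK⟩ : ↥K) ^ p = 1 := Subtype.ext hzp
  have hz1' : (⟨z, hzK⟩ : ↥K) ≠ 1 := fun h => hz1 (congrArg Subtype.val h)
  have hAK : A ≤ Subgroup.normalizer (K : Set G) := by
    rw [Subgroup.normalizer_eq_top]
    exact le_top
  have hcopK : (Nat.card A).Coprime (Nat.card K) := by
    obtain ⟨r, hr⟩ := hK.exists_card_eq
    rw [hr]
    exact Nat.Coprime.pow_right r hcop
  have hsolv : Group.IsSolvable ↥K := by
    have := hK.isNilpotent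
    exact IsNilpotent.to_isSolvable
  have hfix : K ⊓ Subgroup.centralizer (A : Set G) ≤ ⁅K, K⁆ :=
    Cfsg.Agent.Lib.Helper61.inf_centralizer_le_commutator_of_commutator_eq K A hAK hcopK hKA
  refine metacyclic_endgame hp2 hK hm hcl ⟨z, hzK⟩ hcomm' hzp' hz1'
    (fun a : A => MulAut.conjNormal (a : G)) ?_ ?_
  · intro T hT
    rw [eq_top_iff]
    have h1 : ⁅K, A⁆ ≤ T.map K.subtype := by
      rw [Subgroup.commutator_le]
      intro x hx a ha
      refine ⟨(⟨x⁻¹, K.inv_mem hx⟩ : ↥K)⁻¹ * MulAut.conjNormal a ⟨x⁻¹, K.inv_mem hx⟩,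
        hT ⟨a, ha⟩ ⟨x⁻¹, K.inv_mem hx⟩, ?_⟩
      rw [Subgroup.subtype_apply, Subgroup.coe_mul, Subgroup.coe_inv, MulAut.conjNormal_apply,
        commutatorElement_def]
      group
    intro x _
    have hx' : (x : G) ∈ ⁅K, A⁆ := by
      rw [hKA]
      exact x.2
    obtain ⟨t, ht, hte⟩ := h1 hx'
    have : t = x := Subtype.ext hte
    exact this ▸ ht
  · intro w hw
    rw [Subgroup.mem_center_iff]
    have hZn : A ≤ Subgroup.normalizer
        ((K ⊓ Subgroup.centralizer (K : Set G) : Subgroup G) : Set G) := by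
      rw [Subgroup.normalizer_eq_top]
      exact le_top
    obtain ⟨n, hn, hcent⟩ := Cfsg.Agent.Lib.Helper1.coprime_fixed_coset A K hcopK (Or.inr hsolv)
      (K ⊓ Subgroup.centralizer (K : Set G)) inf_le_left hZn (w : G) (by
        intro a ha
        have h1 := hw ⟨a, ha⟩
        rw [Subgroup.mem_center_iff] at h1
        have e1 : (w : G)⁻¹ * a * w * a⁻¹ = ((w⁻¹ * MulAut.conjNormal a w : ↥K) : G) := by
          rw [Subgroup.coe_mul, Subgroup.coe_inv, MulAut.conjNormal_apply]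
          group
        refine Subgroup.mem_inf.2 ⟨?_, ?_⟩
        · rw [e1]
          exact SetLike.coe_mem _
        · rw [Subgroup.mem_centralizer_iff]
          intro y hy
          have h2 := h1 ⟨y, hy⟩
          have h3 := congrArg Subtype.val h2
          rw [Subgroup.coe_mul, Subgroup.coe_mul] at h3
          rw [e1]
          exact h3)
    have hwn : (w : G) * n ∈ ⁅K, K⁆ :=
      hfix (Subgroup.mem_inf.2 ⟨K.mul_mem w.2 (Subgroup.mem_inf.1 hn).1, hcent⟩)
    intro g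
    apply Subtype.ext
    rw [Subgroup.coe_mul, Subgroup.coe_mul]
    have h1 : ∀ c ∈ ⁅K, K⁆, (g : G) * c = c * g := by
      intro c hc
      rw [hz] at hc
      obtain ⟨i, rfl⟩ := Subgroup.mem_zpowers_iff.1 hc
      exact ((show Commute (g : G) z from hKz g g.2).zpow_right i).eq
    have h2 := h1 _ hwn
    have h3 : (g : G) * n = n * g := by
      have h4 := (Subgroup.mem_inf.1 hn).2
      rw [Subgroup.mem_centralizer_iff] at h4
      exact h4 g g.2
    calc (g : G) * w = g * (w * n) * n⁻¹ := by group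
      _ = w * n * g * n⁻¹ := by rw [h2]
      _ = w * (n * g) * n⁻¹ := by group
      _ = w * (g * n) * n⁻¹ := by rw [h3]
      _ = w * g := by group

/-- `K` normal: if `K = [K, A]` for a coprime `A`, then the metacyclic `p`-group `K` (`p` odd)
is abelian. -/
theorem metacyclic_coprime_normal.{u} {G : Type u} [Group G] [Finite G] {p : ℕ} [Fact p.Prime]
    (hp2 : p ≠ 2) (K A : Subgroup G) [hKn : K.Normal] (hK : IsPGroup p K)
    (hm : Cfsg.IsMetacyclic ↥K) (hcop : (Nat.card A).Coprime p) (hKA : ⁅K, A⁆ = K) :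
    ∀ x ∈ K, ∀ y ∈ K, x * y = y * x := by
  have hp : p.Prime := Fact.out
  by_contra hcon
  obtain ⟨a, b, m, J, d, e, h⟩ := Cfsg.Agent.Lib.Helper68.exists_MC hK hm
  have hc1 := Cfsg.Agent.Lib.Helper68.commutator_eq_zpowers h.hnorm h.hdec h.hconj
  obtain ⟨z, hz⟩ : ∃ z : G, ⁅K, K⁆ = Subgroup.zpowers z := by
    refine ⟨((a ^ d : ↥K) : G), ?_⟩
    rw [← Subgroup.map_subtype_commutator, hc1, MonoidHom.map_zpowers]
    rfl
  have hz1 : z ≠ 1 := by
    intro h1
    apply hcon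
    rw [h1, Subgroup.zpowers_one_eq_bot, Subgroup.commutator_eq_bot_iff_le_centralizer] at hz
    intro x hx y hy
    have h2 := hz hx
    rw [Subgroup.mem_centralizer_iff] at h2
    exact (h2 y hy).symm
  have hzn : (Subgroup.zpowers z).Normal := hz ▸ Subgroup.commutator_normal K K
  have hMn : (Subgroup.zpowers (z ^ p)).Normal := by
    constructor
    intro n hn g
    obtain ⟨i, rfl⟩ := Subgroup.mem_zpowers_iff.1 hn
    obtain ⟨k, hk⟩ := Subgroup.mem_zpowers_iff.1 (hzn.conj_mem z (Subgroup.mem_zpowers z) g)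
    rw [Subgroup.mem_zpowers_iff]
    refine ⟨i * k, ?_⟩
    rw [← conj_zpow, ← conj_pow, ← hk, ← zpow_natCast, ← zpow_natCast, ← zpow_mul, ← zpow_mul,
      ← zpow_mul]
    congr 1
    ring
  have hzM : z ∉ Subgroup.zpowers (z ^ p) := by
    intro hmem
    obtain ⟨i, hi⟩ := Subgroup.mem_zpowers_iff.1 hmem
    have h1 : z ^ ((p : ℤ) * i - 1) = 1 := by
      rw [zpow_sub, zpow_mul, zpow_natCast, hi, zpow_one, mul_inv_cancel]
    rw [← orderOf_dvd_iff_zpow_eq_one] at h1
    have hzK : z ∈ K := Subgroup.commutator_le_right K K (hz ▸ Subgroup.mem_zpowers z)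
    obtain ⟨t, ht⟩ := hK ⟨z, hzK⟩
    have ht' : z ^ p ^ t = 1 := congrArg Subtype.val ht
    obtain ⟨t', _, ht2⟩ := (Nat.dvd_prime_pow hp).1 (orderOf_dvd_of_pow_eq_one ht')
    have ht0 : t' ≠ 0 := by
      rintro rfl
      rw [pow_zero, orderOf_eq_one_iff] at ht2
      exact hz1 ht2
    have h2 : (p : ℤ) ∣ (orderOf z : ℤ) := by
      rw [ht2]
      exact_mod_cast dvd_pow_self p ht0
    have h3 : (p : ℤ) ∣ (p : ℤ) * i - 1 := h2.trans h1
    have h4 : (p : ℤ) ∣ 1 := by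
      have h5 := Dvd.dvd.sub (dvd_mul_right (p : ℤ) i) h3
      simpa using h5
    have h6 : p ∣ 1 := by exact_mod_cast h4
    exact hp.one_lt.ne' (Nat.dvd_one.1 h6)
  have hf : Function.Surjective (QuotientGroup.mk' (Subgroup.zpowers (z ^ p))) :=
    QuotientGroup.mk'_surjective _
  have hKn' : (K.map (QuotientGroup.mk' (Subgroup.zpowers (z ^ p)))).Normal := hKn.map _ hf
  refine metacyclic_coprime_aux hp2 (K.map (QuotientGroup.mk' (Subgroup.zpowers (z ^ p))))
    (A.map (QuotientGroup.mk' (Subgroup.zpowers (z ^ p)))) (hK.map _)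
    (isMetacyclic_of_surjective ((QuotientGroup.mk' (Subgroup.zpowers (z ^ p))).subgroupMap K)
      ((QuotientGroup.mk' (Subgroup.zpowers (z ^ p))).subgroupMap_surjective K) hm)
    (Nat.Coprime.coprime_dvd_left (Subgroup.card_map_dvd A _) hcop)
    (by rw [← Subgroup.map_commutator, hKA]) (QuotientGroup.mk' (Subgroup.zpowers (z ^ p)) z)
    (by rw [← Subgroup.map_commutator, hz, MonoidHom.map_zpowers]) ?_ ?_
  · rw [← map_pow]
    exact (QuotientGroup.eq_one_iff _).2 (Subgroup.mem_zpowers _)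
  · intro h1
    exact hzM ((QuotientGroup.eq_one_iff z).1 h1)

/-- **Coprime action on a metacyclic `p`-group**, `p` odd: if `K = [K, A]` with `A` a
`p'`-group normalizing the metacyclic `p`-subgroup `K`, then `K` is abelian. -/
theorem metacyclic_coprime_commutative.{u} {G : Type u} [Group G] [Finite G] {p : ℕ}
    [Fact p.Prime] (hp2 : p ≠ 2) (K A : Subgroup G) (hK : IsPGroup p K)
    (hm : Cfsg.IsMetacyclic ↥K) (hAK : A ≤ Subgroup.normalizer (K : Set G))
    (hcop : (Nat.card A).Coprime p) (hKA : ⁅K, A⁆ = K) :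
    ∀ x ∈ K, ∀ y ∈ K, x * y = y * x := by
  have hKN : K ≤ Subgroup.normalizer (K : Set G) := Subgroup.le_normalizer
  have hn : (K.subgroupOf (Subgroup.normalizer (K : Set G))).Normal :=
    Subgroup.normal_in_normalizer
  have hK0 : IsPGroup p (K.subgroupOf (Subgroup.normalizer (K : Set G))) := hK.comap_subtype
  have hm0 : Cfsg.IsMetacyclic ↥(K.subgroupOf (Subgroup.normalizer (K : Set G))) :=
    isMetacyclic_of_surjective (Subgroup.subgroupOfEquivOfLe hKN).symm.toMonoidHom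
      (Subgroup.subgroupOfEquivOfLe hKN).symm.surjective hm
  have hcop0 : (Nat.card (A.subgroupOf (Subgroup.normalizer (K : Set G)))).Coprime p := by
    rw [Nat.card_congr (Subgroup.subgroupOfEquivOfLe hAK).toEquiv]
    exact hcop
  have hKA0 : ⁅K.subgroupOf (Subgroup.normalizer (K : Set G)),
      A.subgroupOf (Subgroup.normalizer (K : Set G))⁆
      = K.subgroupOf (Subgroup.normalizer (K : Set G)) := by
    apply Subgroup.map_injective (Subgroup.normalizer (K : Set G)).subtype_injective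
    rw [Subgroup.map_commutator, Subgroup.subgroupOf_map_subtype,
      Subgroup.subgroupOf_map_subtype, inf_eq_left.2 hKN, inf_eq_left.2 hAK, hKA]
  have h := metacyclic_coprime_normal hp2 (K.subgroupOf (Subgroup.normalizer (K : Set G)))
    (A.subgroupOf (Subgroup.normalizer (K : Set G))) hK0 hm0 hcop0 hKA0
  intro x hx y hy
  have h1 := h ⟨x, hKN hx⟩ (Subgroup.mem_subgroupOf.2 hx) ⟨y, hKN hy⟩
    (Subgroup.mem_subgroupOf.2 hy)
  exact congrArg Subtype.val h1

end Cfsg.Agent.Lib.Helper54
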