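import Mathlib

/-!
Recognition of dihedral groups: a finite group of order `2 * n` with an element `a` of order `n`
and an element `x` outside `⟨a⟩` with `x ^ 2 = 1` inverting `a` is isomorphic to `DihedralGroup n`.
-/

set_option autoImplicit false

namespace Cfsg.Agent.Lib.Helper54

/-- `i ↦ a ^ i` as an additive map out of `ZMod n`, for `a ^ n = 1`. -/
noncomputable def zmodPowHom {S : Type*} [Group S] (a : S) (n : ℕ) (ha : a ^ n = 1) :
    ZMod n →+ Additive S :=
  ZMod.lift n ⟨zmultiplesHom (Additive S) (Additive.ofMul a), by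
    change (n : ℤ) • Additive.ofMul a = 0
    rw [natCast_zsmul, ← ofMul_pow, ha, ofMul_one]⟩

theorem zmodPowHom_intCast {S : Type*} [Group S] (a : S) (n : ℕ) (ha : a ^ n = 1) (k : ℤ) :
    (zmodPowHom a n ha (k : ZMod n)).toMul = a ^ k := by
  unfold zmodPowHom
  rw [ZMod.lift_coe]
  change ((k : ℤ) • Additive.ofMul a).toMul = a ^ k
  rw [← ofMul_zpow, toMul_ofMul]

theorem zmodPowHom_mem {S : Type*} [Group S] (a : S) (n : ℕ) (ha : a ^ n = 1) (i : ZMod n) :
    (zmodPowHom a n ha i).toMul ∈ Subgroup.zpowers a := by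
  obtain ⟨k, rfl⟩ := ZMod.intCast_surjective i
  rw [zmodPowHom_intCast]
  exact Subgroup.zpow_mem_zpowers a k

theorem zmodPowHom_conj {S : Type*} [Group S] (a x : S) (n : ℕ) (ha : a ^ n = 1)
    (hconj : x * a * x⁻¹ = a⁻¹) (i : ZMod n) :
    x * (zmodPowHom a n ha i).toMul * x⁻¹ = ((zmodPowHom a n ha i).toMul)⁻¹ := by
  obtain ⟨k, rfl⟩ := ZMod.intCast_surjective i
  rw [zmodPowHom_intCast, ← conj_zpow, hconj, inv_zpow]

theorem zmodPowHom_injective {S : Type*} [Group S] (a : S) (n : ℕ) (ha : orderOf a = n) :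
    Function.Injective (zmodPowHom a n (ha ▸ pow_orderOf_eq_one a)) := by
  unfold zmodPowHom
  rw [ZMod.lift_injective]
  intro m hm
  change (m : ℤ) • Additive.ofMul a = 0 at hm
  rw [← ofMul_zpow] at hm
  have hm' : a ^ m = 1 := Additive.ofMul.injective (hm.trans ofMul_one.symm)
  rw [ZMod.intCast_zmod_eq_zero_iff_dvd, ← ha]
  exact orderOf_dvd_iff_zpow_eq_one.mpr hm'

/-- The homomorphism `DihedralGroup n →* S` sending `r 1` to `a` and `sr 0` to `x`. -/
noncomputable def dihedralHom {S : Type*} [Group S] (a x : S) (n : ℕ) (ha : a ^ n = 1)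
    (hx : x ^ 2 = 1) (hconj : x * a * x⁻¹ = a⁻¹) : DihedralGroup n →* S :=
  MonoidHom.mk' (fun g => match g with
    | .r i => (zmodPowHom a n ha i).toMul
    | .sr i => x * (zmodPowHom a n ha i).toMul) (by
    have hxx : x * x = 1 := by rw [← sq]; exact hx
    have hxinv : x⁻¹ = x := inv_eq_of_mul_eq_one_left hxx
    have key : ∀ i : ZMod n, (zmodPowHom a n ha i).toMul * x
        = x * ((zmodPowHom a n ha i).toMul)⁻¹ := by
      intro i
      have h := zmodPowHom_conj a x n ha hconj i
      rw [hxinv] at h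
      calc (zmodPowHom a n ha i).toMul * x
          = x * (x * (zmodPowHom a n ha i).toMul * x) := by
            rw [← mul_assoc, ← mul_assoc, hxx, one_mul]
        _ = x * ((zmodPowHom a n ha i).toMul)⁻¹ := by rw [h]
    intro g h
    rcases g with i | i <;> rcases h with j | j
    · simp only [DihedralGroup.r_mul_r, map_add, toMul_add]
    · simp only [DihedralGroup.r_mul_sr, map_sub, toMul_sub]
      rw [← mul_assoc, key, mul_assoc, div_eq_mul_inv]
      congr 1
      exact setLike_mul_comm (S := Subgroup S) (s := Subgroup.zpowers a)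
        (zmodPowHom_mem a n ha j) (inv_mem (zmodPowHom_mem a n ha i))
    · simp only [DihedralGroup.sr_mul_r, map_add, toMul_add, mul_assoc]
    · simp only [DihedralGroup.sr_mul_sr, map_sub, toMul_sub]
      rw [mul_assoc, ← mul_assoc _ x, key, ← mul_assoc, ← mul_assoc, hxx, one_mul, div_eq_mul_inv]
      exact setLike_mul_comm (S := Subgroup S) (s := Subgroup.zpowers a)
        (zmodPowHom_mem a n ha j) (inv_mem (zmodPowHom_mem a n ha i)))

theorem dihedralHom_injective {S : Type*} [Group S] (a x : S) (n : ℕ) (ha : orderOf a = n)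
    (hx : x ^ 2 = 1) (hconj : x * a * x⁻¹ = a⁻¹) (hxa : x ∉ Subgroup.zpowers a) :
    Function.Injective (dihedralHom a x n (ha ▸ pow_orderOf_eq_one a) hx hconj) := by
  have han : a ^ n = 1 := ha ▸ pow_orderOf_eq_one a
  have hinj := zmodPowHom_injective a n ha
  intro g h hgh
  rcases g with i | i <;> rcases h with j | j
  · change (zmodPowHom a n han i).toMul = (zmodPowHom a n han j).toMul at hgh
    rw [hinj (Additive.toMul.injective hgh)]
  · exfalso
    change (zmodPowHom a n han i).toMul = x * (zmodPowHom a n han j).toMul at hgh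
    apply hxa
    have : x = (zmodPowHom a n han i).toMul * ((zmodPowHom a n han j).toMul)⁻¹ := by
      rw [hgh, mul_inv_cancel_right]
    rw [this]
    exact mul_mem (zmodPowHom_mem a n han i) (inv_mem (zmodPowHom_mem a n han j))
  · exfalso
    change x * (zmodPowHom a n han i).toMul = (zmodPowHom a n han j).toMul at hgh
    apply hxa
    have : x = (zmodPowHom a n han j).toMul * ((zmodPowHom a n han i).toMul)⁻¹ := by
      rw [← hgh, mul_inv_cancel_right]
    rw [this]
    exact mul_mem (zmodPowHom_mem a n han j) (inv_mem (zmodPowHom_mem a n han i))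
  · change x * (zmodPowHom a n han i).toMul = x * (zmodPowHom a n han j).toMul at hgh
    rw [hinj (Additive.toMul.injective (mul_left_cancel hgh))]

/-- Recognition of the dihedral group of order `2 * n`. -/
theorem nonempty_mulEquiv_dihedralGroup {S : Type*} [Group S] [Finite S] {x a : S} {n : ℕ}
    (hx2 : x ^ 2 = 1) (ha : orderOf a = n) (hcard : Nat.card S = 2 * n)
    (hxa : x ∉ Subgroup.zpowers a) (hconj : x * a * x⁻¹ = a⁻¹) :
    Nonempty (S ≃* DihedralGroup n) := by
  have hinj := dihedralHom_injective a x n ha hx2 hconj hxa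
  have hn0 : n ≠ 0 := by
    rintro rfl
    exact (orderOf_pos a).ne' ha
  have : NeZero n := ⟨hn0⟩
  have hbij : Function.Bijective (dihedralHom a x n (ha ▸ pow_orderOf_eq_one a) hx2 hconj) := by
    rw [Nat.bijective_iff_injective_and_card]
    exact ⟨hinj, by rw [DihedralGroup.nat_card, hcard]⟩
  exact ⟨(MulEquiv.ofBijective _ hbij).symm⟩

end Cfsg.Agent.Lib.Helper54
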