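import Mathlib
import Cfsg.Agent.Lib.Helper54.HHSpecial

/-!
# Choosing the module `V₁` and the centre modulo the kernel
-/

set_option autoImplicit false

namespace Cfsg.Agent.Lib.Helper54

open scoped commutatorElement

universe u

variable {G : Type u} [Group G] [Finite G]

/-- The preimage of the centre of `P / K` is `X`-invariant, hence centralized by `X` when `P` is
minimal. -/
theorem minimal_center_mod {X P K : Subgroup G} (x : G) (hXx : X = Subgroup.zpowers x)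
    (hxP : x ∈ Subgroup.normalizer (P : Set G))
    (hKx : ∀ k ∈ K, k * x = x * k) (hKcen : ∀ k ∈ K, ∀ a ∈ P, a * k = k * a)
    (hnab : ∃ a ∈ P, ∃ b ∈ P, ⁅a, b⁆ ∉ K)
    (hmin : ∀ U : Subgroup G, U ≤ P → X ≤ Subgroup.normalizer (U : Set G) → U ≠ P →
        U ≤ Subgroup.centralizer (X : Set G)) :
    ∀ b ∈ P, (∀ d ∈ P, ⁅b, d⁆ ∈ K) → b * x = x * b := by
  let U : Subgroup G :=
    { carrier := {b | b ∈ P ∧ ∀ d ∈ P, ⁅b, d⁆ ∈ K}
      one_mem' := by
        refine ⟨P.one_mem, fun d _ => ?_⟩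
        have e : ⁅(1 : G), d⁆ = 1 := by simp [commutatorElement_def]
        rw [e]
        exact K.one_mem
      mul_mem' := by
        rintro b b' ⟨hb, hbK⟩ ⟨hb', hb'K⟩
        refine ⟨P.mul_mem hb hb', fun d hd => ?_⟩
        have e : ⁅b * b', d⁆ = b * ⁅b', d⁆ * b⁻¹ * ⁅b, d⁆ := by
          simp only [commutatorElement_def]
          group
        have hc := hKcen ⁅b', d⁆ (hb'K d hd) b hb
        rw [e, hc]
        have e2 : ⁅b', d⁆ * b * b⁻¹ * ⁅b, d⁆ = ⁅b', d⁆ * ⁅b, d⁆ := by group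
        rw [e2]
        exact K.mul_mem (hb'K d hd) (hbK d hd)
      inv_mem' := by
        rintro b ⟨hb, hbK⟩
        refine ⟨P.inv_mem hb, fun d hd => ?_⟩
        have e : ⁅b⁻¹, d⁆ = b⁻¹ * (⁅b, d⁆)⁻¹ * b := by
          simp only [commutatorElement_def]
          group
        have hc := hKcen (⁅b, d⁆)⁻¹ (K.inv_mem (hbK d hd)) b⁻¹ (P.inv_mem hb)
        rw [e, hc]
        have e2 : (⁅b, d⁆)⁻¹ * b⁻¹ * b = (⁅b, d⁆)⁻¹ := by group
        rw [e2]
        exact K.inv_mem (hbK d hd) }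
  have hUP : U ≤ P := fun b hb => hb.1
  have hUne : U ≠ P := by
    intro h
    obtain ⟨a, ha, b, hb, hab⟩ := hnab
    have h1 : a ∈ U := by rw [h]; exact ha
    exact hab (h1.2 b hb)
  have hXU : X ≤ Subgroup.normalizer (U : Set G) := by
    rw [hXx, Subgroup.zpowers_le]
    apply mem_normalizer_of_conj_mem
    rintro b ⟨hb, hbK⟩
    refine ⟨(Subgroup.mem_normalizer_iff.mp hxP b).mp hb, fun d hd => ?_⟩
    have hd' : x⁻¹ * d * x ∈ P := (Subgroup.mem_normalizer_iff''.mp hxP d).mp hd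
    have hk := hbK _ hd'
    have e : ⁅x * b * x⁻¹, d⁆ = x * ⁅b, x⁻¹ * d * x⁆ * x⁻¹ := by
      simp only [commutatorElement_def]
      group
    rw [e, ← hKx _ hk]
    have e2 : ⁅b, x⁻¹ * d * x⁆ * x * x⁻¹ = ⁅b, x⁻¹ * d * x⁆ := by group
    rw [e2]
    exact hk
  have hle := hmin U hUP hXU hUne
  intro b hb hbK
  have h1 : b ∈ Subgroup.centralizer (X : Set G) := hle ⟨hb, hbK⟩
  have h2 := Subgroup.mem_centralizer_iff.mp h1 x (by rw [hXx]; exact Subgroup.mem_zpowers x)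
  exact h2.symm

/-- An irreducible `XP`-submodule `V₁` of `⁅V, C⁆` on which the elementary abelian central
subgroup `C` acts through a quotient of order `q`. -/
theorem exists_irreducible_module {p q : ℕ} (hp : p.Prime) (hq : q.Prime) (hpq : p ≠ q)
    (X P C V : Subgroup G) (hPq : IsPGroup q P) (hCP : C ≤ P)
    (hCexp : ∀ c ∈ C, c ^ q = 1)
    (hCX : ∀ c ∈ C, ∀ y ∈ X, y * c = c * y)
    (hCPc : ∀ c ∈ C, ∀ a ∈ P, a * c = c * a)
    (hV : Cfsg.IsElementaryAbelian p V) (hXV : X ≤ Subgroup.normalizer (V : Set G))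
    (hPV : P ≤ Subgroup.normalizer (V : Set G))
    (hCV : ¬ C ≤ Subgroup.centralizer (V : Set G)) :
    ∃ V₁ : Subgroup G, V₁ ≤ V ∧ X ≤ Subgroup.normalizer (V₁ : Set G) ∧
      P ≤ Subgroup.normalizer (V₁ : Set G) ∧
      ∃ a₀ ∈ C, a₀ ∉ Subgroup.centralizer (V₁ : Set G) ∧
        ∀ b ∈ C, ∃ j : ℕ, b * a₀ ^ j ∈ Subgroup.centralizer (V₁ : Set G) := by
  have : Fact p.Prime := ⟨hp⟩
  have : Fact q.Prime := ⟨hq⟩
  haveI : IsMulCommutative V := hV.1
  have hCnV : C ≤ Subgroup.normalizer (V : Set G) := hCP.trans hPV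
  have hCq : IsPGroup q C := hPq.to_le hCP
  have hVp : IsPGroup p V := fun v => ⟨1, Subtype.ext (by simpa using hV.2 v v.2)⟩
  have hcop : (Nat.card C).Coprime (Nat.card V) := by
    obtain ⟨k, hk⟩ := IsPGroup.iff_card.mp hCq
    obtain ⟨l, hl⟩ := IsPGroup.iff_card.mp hVp
    rw [hk, hl]
    exact Nat.Coprime.pow k l ((Nat.coprime_primes hq hp).mpr (Ne.symm hpq))
  have hWV : ⁅V, C⁆ ≤ V := Cfsg.Agent.Lib.Helper1.commutator_le_of_le_normalizer hCnV
  have hW1 : ⁅V, C⁆ ≠ ⊥ := by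
    intro h
    rw [Subgroup.commutator_eq_bot_iff_le_centralizer] at h
    exact hCV (Subgroup.le_centralizer_iff.mp h)
  have hWfix := Cfsg.Agent.Lib.Helper1.abelian_centralizer_inf_commutator C V hCnV hcop
  -- invariance of `⁅V, C⁆`
  have hinv : ∀ g : G, g ∈ Subgroup.normalizer (V : Set G) → (∀ c ∈ C, g * c = c * g) →
      g ∈ Subgroup.normalizer ((⁅V, C⁆ : Subgroup G) : Set G) := by
    intro g hg hgc
    apply mem_normalizer_of_conj_mem
    apply conj_mem_commutator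
    · intro v hv
      exact (Subgroup.mem_normalizer_iff.mp hg v).mp hv
    · intro c hc
      rw [hgc c hc]
      have e : c * g * g⁻¹ = c := by group
      rw [e]
      exact hc
  have hXW : X ≤ Subgroup.normalizer ((⁅V, C⁆ : Subgroup G) : Set G) :=
    fun y hy => hinv y (hXV hy) (fun c hc => hCX c hc y hy)
  have hPW : P ≤ Subgroup.normalizer ((⁅V, C⁆ : Subgroup G) : Set G) :=
    fun a ha => hinv a (hPV ha) (fun c hc => hCPc c hc a ha)
  -- a minimal invariant subgroup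
  obtain ⟨V₁, hV₁, hmin⟩ := WellFounded.has_min (measure (fun U : Subgroup G => Nat.card U)).wf
    {U : Subgroup G | U ≤ ⁅V, C⁆ ∧ U ≠ ⊥ ∧ X ≤ Subgroup.normalizer (U : Set G) ∧
      P ≤ Subgroup.normalizer (U : Set G)} ⟨⁅V, C⁆, le_rfl, hW1, hXW, hPW⟩
  obtain ⟨hV₁W, hV₁1, hXV₁, hPV₁⟩ := hV₁
  have hmin' : ∀ U : Subgroup G, U ≤ V₁ → X ≤ Subgroup.normalizer (U : Set G) →
      P ≤ Subgroup.normalizer (U : Set G) → U ≠ V₁ → U = ⊥ := by
    intro U hU hXU hPU hne
    by_contra hU1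
    exact hmin U ⟨hU.trans hV₁W, hU1, hXU, hPU⟩
      (Cfsg.Agent.Lib.Helper1.card_lt_card_of_lt (lt_of_le_of_ne hU hne))
  -- fixed points of central elements
  have hfixz : ∀ z ∈ C, z ∉ Subgroup.centralizer (V₁ : Set G) →
      ∀ v ∈ V₁, z * v = v * z → v = 1 := by
    intro z hz hzV
    have hinvz : ∀ g : G, g ∈ Subgroup.normalizer (V₁ : Set G) → g * z = z * g →
        g ∈ Subgroup.normalizer
          ((V₁ ⊓ Subgroup.centralizer ({z} : Set G) : Subgroup G) : Set G) := by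
      intro g hg hgz
      apply mem_normalizer_of_conj_mem
      intro u hu
      refine Subgroup.mem_inf.mpr ⟨(Subgroup.mem_normalizer_iff.mp hg u).mp hu.1, ?_⟩
      rw [Subgroup.mem_centralizer_iff]
      intro z' hz'
      rw [Set.mem_singleton_iff] at hz'
      subst hz'
      have h1 : z' * u = u * z' :=
        Subgroup.mem_centralizer_iff.mp hu.2 z' (Set.mem_singleton z')
      have hginv : z' * g⁻¹ = g⁻¹ * z' :=
        (Commute.inv_right (show Commute z' g from hgz.symm)).eq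
      calc z' * (g * u * g⁻¹) = (z' * g) * u * g⁻¹ := by group
        _ = (g * z') * u * g⁻¹ := by rw [hgz]
        _ = g * (z' * u) * g⁻¹ := by group
        _ = g * (u * z') * g⁻¹ := by rw [h1]
        _ = g * u * (z' * g⁻¹) := by group
        _ = g * u * (g⁻¹ * z') := by rw [hginv]
        _ = g * u * g⁻¹ * z' := by group
    have hne : V₁ ⊓ Subgroup.centralizer ({z} : Set G) ≠ V₁ := by
      intro h
      apply hzV
      rw [Subgroup.mem_centralizer_iff]
      intro v hv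
      have h1 : v ∈ V₁ ⊓ Subgroup.centralizer ({z} : Set G) := by rw [h]; exact hv
      exact (Subgroup.mem_centralizer_iff.mp h1.2 z (Set.mem_singleton z)).symm
    have hbot := hmin' _ inf_le_left
      (fun y hy => hinvz y (hXV₁ hy) (hCX z hz y hy))
      (fun a ha => hinvz a (hPV₁ ha) (hCPc z hz a ha)) hne
    intro v hv hzv
    have h1 : v ∈ V₁ ⊓ Subgroup.centralizer ({z} : Set G) := by
      refine Subgroup.mem_inf.mpr ⟨hv, ?_⟩
      rw [Subgroup.mem_centralizer_iff]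
      intro z' hz'
      rw [Set.mem_singleton_iff] at hz'
      rw [hz']
      exact hzv
    rw [hbot, Subgroup.mem_bot] at h1
    exact h1
  -- `C` does not centralize `V₁`
  have hCV₁ : ¬ C ≤ Subgroup.centralizer (V₁ : Set G) := by
    intro h
    apply hV₁1
    rw [eq_bot_iff, ← hWfix]
    intro v hv
    exact Subgroup.mem_inf.mpr ⟨Subgroup.mem_inf.mpr ⟨hWV (hV₁W hv),
      Subgroup.le_centralizer_iff.mp h hv⟩, hV₁W hv⟩
  obtain ⟨a₀, ha₀C, ha₀V⟩ := Set.not_subset.mp hCV₁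
  refine ⟨V₁, hV₁W.trans hWV, hXV₁, hPV₁, a₀, ha₀C, ha₀V, ?_⟩
  intro b hb
  by_contra hcon
  push Not at hcon
  apply hV₁1
  -- the action on `V₁`
  have hCab : ∀ c ∈ C, ∀ d ∈ C, c * d = d * c := fun c hc d hd => hCPc d hd c (hCP hc)
  have hV₁ab : ∀ u ∈ V₁, ∀ v ∈ V₁, u * v = v * u := by
    intro u hu v hv
    have h1 := hV.1.is_comm.comm (⟨u, hV₁W.trans hWV hu⟩ : ↥V) ⟨v, hV₁W.trans hWV hv⟩
    exact congrArg Subtype.val h1
  letI : CommGroup ↥V₁ :=
    { (inferInstance : Group ↥V₁) with mul_comm := fun a b => Subtype.ext (hV₁ab a a.2 b b.2) }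
  letI : MulDistribMulAction ↥(Subgroup.normalizer (V₁ : Set G)) ↥V₁ :=
    MulDistribMulAction.compHom ↥V₁ (Cfsg.Agent.Lib.Helper48.normConj V₁)
  have hsmul : ∀ (g : ↥(Subgroup.normalizer (V₁ : Set G))) (v : ↥V₁),
      ((g • v : ↥V₁) : G) = (g : G) * v * (g : G)⁻¹ := fun g v => rfl
  have hCN : C ≤ Subgroup.normalizer (V₁ : Set G) := hCP.trans hPV₁
  let a' : ↥(Subgroup.normalizer (V₁ : Set G)) := ⟨a₀, hCN ha₀C⟩
  let b' : ↥(Subgroup.normalizer (V₁ : Set G)) := ⟨b, hCN hb⟩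
  have hfix' : ∀ (g : ↥(Subgroup.normalizer (V₁ : Set G))), (g : G) ∈ C →
      (g : G) ∉ Subgroup.centralizer (V₁ : Set G) → ∀ w : ↥V₁, g • w = w → w = 1 := by
    intro g hgC hgV w hw
    have h1 : (g : G) * w * (g : G)⁻¹ = w := congrArg Subtype.val hw
    apply Subtype.ext
    apply hfixz g hgC hgV w w.2
    calc (g : G) * w = ((g : G) * w * (g : G)⁻¹) * g := by group
      _ = w * g := by rw [h1]
  have ha₀1 : a₀ ≠ 1 := by
    intro h
    apply ha₀V
    rw [h]
    exact Subgroup.one_mem _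
  have ha₀ord : orderOf a₀ = q := orderOf_eq_prime (hCexp a₀ ha₀C) ha₀1
  have hpowq : ∀ w : ↥V₁, w ^ q = 1 := by
    intro w
    refine pow_eq_one_of_fpf_pair a' b' q hq.pos (Subtype.ext (hCab a₀ ha₀C b hb))
      (Subtype.ext (by simpa [a'] using hCexp a₀ ha₀C))
      (Subtype.ext (by simpa [b'] using hCexp b hb)) ?_ ?_ w
    · intro i hi0 hiq
      apply hfix'
      · simpa [a'] using C.pow_mem ha₀C i
      · have hcop' : Nat.Coprime i (orderOf a₀) := by
          rw [ha₀ord]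
          exact (Nat.coprime_of_lt_prime (Nat.pos_iff_ne_zero.mp hi0) hiq hq).symm
        obtain ⟨m, hm⟩ := exists_pow_eq_self_of_coprime hcop'
        intro h
        apply ha₀V
        rw [← hm]
        have h2 : (a₀ ^ i) ∈ Subgroup.centralizer (V₁ : Set G) := by simpa [a'] using h
        exact Subgroup.pow_mem _ h2 m
    · intro j _
      apply hfix'
      · simpa [a', b'] using C.mul_mem hb (C.pow_mem ha₀C j)
      · simpa [a', b'] using hcon j
  rw [eq_bot_iff]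
  intro v hv
  rw [Subgroup.mem_bot]
  have h1 : v ^ q = 1 := by simpa using congrArg Subtype.val (hpowq ⟨v, hv⟩)
  have h2 : v ^ p = 1 := hV.2 v (hV₁W.trans hWV hv)
  have h3 := pow_gcd_eq_one.mpr ⟨h1, h2⟩
  have hg : Nat.gcd q p = 1 := (Nat.coprime_primes hq hp).mpr (Ne.symm hpq)
  rwa [hg, pow_one] at h3

end Cfsg.Agent.Lib.Helper54
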