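import Mathlib
import Cfsg.Agent.Lib.Helper1.SZInternal
import Cfsg.Agent.Lib.Helper54.HHSpecial
import Cfsg.Agent.Lib.Helper97.HHMul

/-!
# Applying the Hall–Higman bound to a special section `P / K` acting on `V₁`
-/

set_option autoImplicit false

namespace Cfsg.Agent.Lib.Helper54

open scoped commutatorElement

universe u

variable {G : Type u} [Group G] [Finite G]

set_option maxHeartbeats 1600000 in
/-- The section `P / K` (extraspecial-like, with `x` acting) on the module `V₁`: Hall–Higman's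
bound forces `q = 2` and `r` a Fermat prime. -/
theorem hh_section {p q r : ℕ} (hp : p.Prime) (hq : q.Prime) (hr : r.Prime) (hpq : p ≠ q)
    (hpr : p ≠ r) (hqr : q ≠ r) (X P V₁ K : Subgroup G) (x : G)
    (hX : Nat.card X = r) (hxX : x ∈ X) (hxr : x ^ r = 1)
    (hPq : IsPGroup q P) (hXP : X ≤ Subgroup.normalizer (P : Set G))
    (hXV : X ≤ Subgroup.normalizer (V₁ : Set G)) (hPV : P ≤ Subgroup.normalizer (V₁ : Set G))
    (hVab : ∀ u ∈ V₁, ∀ v ∈ V₁, u * v = v * u) (hVexp : ∀ v ∈ V₁, v ^ p = 1)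
    (hVfix : ∀ v ∈ V₁, x * v = v * x → v = 1)
    (hKP : K ≤ P) (hKx : ∀ k ∈ K, k * x = x * k)
    (hKV : K ≤ Subgroup.centralizer (V₁ : Set G))
    (hD1 : ∀ a ∈ P, ∀ b ∈ P, ⁅a, b⁆ * x = x * ⁅a, b⁆)
    (hD3 : ∀ c ∈ P, c * x = x * c → ∀ a ∈ P, a * c = c * a)
    (hcen : ∀ b ∈ P, (∀ d ∈ P, ⁅b, d⁆ ∈ K) → b * x = x * b)
    (a₀ : G) (ha₀P : a₀ ∈ P) (ha₀x : a₀ * x = x * a₀) (ha₀q : a₀ ^ q = 1)
    (ha₀V : a₀ ∉ Subgroup.centralizer (V₁ : Set G))
    (hidx : ∀ b ∈ P, b * x = x * b → ∃ j : ℕ, b * a₀ ^ j ∈ K)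
    (hnab : ∃ a ∈ P, ∃ b ∈ P, ⁅a, b⁆ ∉ K) :
    q = 2 ∧ ∃ n : ℕ, r = 2 ^ n + 1 := by
  classical
  have : Fact q.Prime := ⟨hq⟩
  have hxP : x ∈ Subgroup.normalizer (P : Set G) := hXP hxX
  have hxV : x ∈ Subgroup.normalizer (V₁ : Set G) := hXV hxX
  -- the quotient
  let K' : Subgroup ↥P := K.subgroupOf P
  have hK'mem : ∀ b : ↥P, b ∈ K' ↔ (b : G) ∈ K := fun b => Subgroup.mem_subgroupOf
  have hKcen : ∀ k ∈ K, ∀ a ∈ P, a * k = k * a :=
    fun k hk a ha => hD3 k (hKP hk) (hKx k hk) a ha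
  haveI hK'n : K'.Normal := by
    constructor
    intro k hk g
    rw [hK'mem] at hk ⊢
    have h1 : (g : G) * k = k * g := hKcen k hk g g.2
    have h2 : ((g * k * g⁻¹ : ↥P) : G) = k := by
      simp only [Subgroup.coe_mul, Subgroup.coe_inv]
      rw [h1]
      group
    rw [h2]
    exact hk
  let mk : ↥P →* ↥P ⧸ K' := QuotientGroup.mk' K'
  have hmk1 : ∀ b : ↥P, mk b = 1 ↔ (b : G) ∈ K := by
    intro b
    rw [← hK'mem]
    exact QuotientGroup.eq_one_iff b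
  have hmksurj : Function.Surjective mk := QuotientGroup.mk'_surjective K'
  -- conjugation by `x` on `P`
  let xP : ↥(Subgroup.normalizer (P : Set G)) := ⟨x, hxP⟩
  let α₀ : MulAut ↥P := Cfsg.Agent.Lib.Helper48.normConj P xP
  have hα₀ : ∀ b : ↥P, ((α₀ b : ↥P) : G) = x * b * x⁻¹ := fun b => rfl
  have hα₀r : α₀ ^ r = 1 := by
    have h1 : xP ^ r = 1 := Subtype.ext (by simpa [xP] using hxr)
    show (Cfsg.Agent.Lib.Helper48.normConj P xP) ^ r = 1
    rw [← map_pow, h1, map_one]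
  have hα₀K : ∀ b : ↥P, (b : G) ∈ K → α₀ b = b := by
    intro b hb
    apply Subtype.ext
    rw [hα₀]
    have h1 := hKx _ hb
    rw [← h1]
    group
  have hmap : K'.map (α₀ : ↥P →* ↥P) = K' := by
    ext b
    constructor
    · rintro ⟨k, hk, rfl⟩
      have h1 : α₀ k = k := hα₀K k ((hK'mem k).mp hk)
      show α₀ k ∈ K'
      rw [h1]
      exact hk
    · intro hb
      exact ⟨b, hb, hα₀K b ((hK'mem b).mp hb)⟩
  let α : (↥P ⧸ K') ≃* (↥P ⧸ K') := QuotientGroup.congr K' K' α₀ hmap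
  have hαmk : ∀ b : ↥P, α (mk b) = mk (α₀ b) :=
    fun b => QuotientGroup.congr_mk' K' K' α₀ hmap b
  have hαpow : ∀ (n : ℕ) (b : ↥P), (α ^ n) (mk b) = mk ((α₀ ^ n) b) := by
    intro n
    induction n with
    | zero => intro b; simp
    | succ n ih =>
      intro b
      rw [pow_succ, pow_succ]
      show (α ^ n) (α (mk b)) = mk ((α₀ ^ n) (α₀ b))
      rw [hαmk, ih]
  have hαr : α ^ r = 1 := by
    ext g
    obtain ⟨b, rfl⟩ := hmksurj g
    rw [hαpow, hα₀r]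
    rfl
  -- the centre of the quotient
  have hcenter : ∀ b : ↥P, mk b ∈ Subgroup.center (↥P ⧸ K') ↔ (b : G) * x = x * b := by
    intro b
    constructor
    · intro hb
      apply hcen b b.2
      intro d hd
      have h1 := Subgroup.mem_center_iff.mp hb (mk ⟨d, hd⟩)
      have h2 : mk (⁅b, ⟨d, hd⟩⁆) = 1 := by
        rw [commutatorElement_def, map_mul, map_mul, map_mul, map_inv, map_inv, ← h1]
        group
      have h3 := (hmk1 _).mp h2
      simpa [commutatorElement_def] using h3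
    · intro hb
      rw [Subgroup.mem_center_iff]
      intro g
      obtain ⟨d, rfl⟩ := hmksurj g
      rw [← map_mul, ← map_mul]
      congr 1
      exact Subtype.ext (hD3 b b.2 hb d d.2)
  have hcomm : ∀ g h : ↥P ⧸ K', ⁅g, h⁆ ∈ Subgroup.center (↥P ⧸ K') := by
    intro g h
    obtain ⟨b, rfl⟩ := hmksurj g
    obtain ⟨d, rfl⟩ := hmksurj h
    rw [← map_commutatorElement, hcenter]
    have h1 := hD1 b b.2 d d.2
    simpa [commutatorElement_def] using h1
  have hαZ : ∀ z ∈ Subgroup.center (↥P ⧸ K'), α z = z := by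
    intro z hz
    obtain ⟨b, rfl⟩ := hmksurj z
    rw [hαmk]
    congr 1
    apply Subtype.ext
    rw [hα₀]
    have h1 := (hcenter b).mp hz
    rw [← h1]
    group
  have hαfpf : ∀ g, g⁻¹ * α g ∈ Subgroup.center (↥P ⧸ K') → g ∈ Subgroup.center (↥P ⧸ K') := by
    intro g hg
    obtain ⟨b, rfl⟩ := hmksurj g
    rw [hαmk, ← map_inv, ← map_mul, hcenter] at hg
    rw [hcenter]
    obtain ⟨c, hc⟩ : ∃ c : G, c = (b : G)⁻¹ * (x * b * x⁻¹) := ⟨_, rfl⟩
    have hcx : c * x = x * c := by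
      rw [hc]
      simpa [hα₀] using hg
    have hcP : c ∈ P := by
      rw [hc]
      exact P.mul_mem (P.inv_mem b.2) ((Subgroup.mem_normalizer_iff.mp hxP b).mp b.2)
    have hxb : x * (b : G) * x⁻¹ = b * c := by rw [hc]; group
    have hpow : ∀ j : ℕ, x ^ j * (b : G) * (x ^ j)⁻¹ = b * c ^ j := by
      intro j
      induction j with
      | zero => simp
      | succ j ih =>
        have hcj : c ^ j * x = x * c ^ j := ((show Commute c x from hcx).pow_left j).eq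
        calc x ^ (j + 1) * (b : G) * (x ^ (j + 1))⁻¹
            = x * (x ^ j * (b : G) * (x ^ j)⁻¹) * x⁻¹ := by rw [pow_succ']; group
          _ = x * ((b : G) * c ^ j) * x⁻¹ := by rw [ih]
          _ = (x * (b : G) * x⁻¹) * (x * c ^ j) * x⁻¹ := by group
          _ = ((b : G) * c) * (c ^ j * x) * x⁻¹ := by rw [hxb, hcj]
          _ = (b : G) * c ^ (j + 1) := by rw [pow_succ']; group
    have hcr : c ^ r = 1 := by
      have h1 := hpow r
      rw [hxr] at h1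
      simpa using h1
    have hc1 : c = 1 := by
      obtain ⟨k, hk⟩ := hPq ⟨c, hcP⟩
      have hk' : c ^ q ^ k = 1 := by simpa using congrArg Subtype.val hk
      have h4 := pow_gcd_eq_one.mpr ⟨hcr, hk'⟩
      have hg : Nat.gcd r (q ^ k) = 1 :=
        Nat.Coprime.pow_right k ((Nat.coprime_primes hr hq).mpr (Ne.symm hqr))
      rwa [hg, pow_one] at h4
    rw [hc1, mul_one] at hxb
    calc (b : G) * x = (x * (b : G) * x⁻¹) * x := by rw [hxb]
      _ = x * b := by group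
  -- the centre has order `q`
  let z₀ : ↥P ⧸ K' := mk ⟨a₀, ha₀P⟩
  have hz₀c : z₀ ∈ Subgroup.center (↥P ⧸ K') := (hcenter _).mpr ha₀x
  have ha₀K : a₀ ∉ K := fun h => ha₀V (hKV h)
  have hz₀1 : z₀ ≠ 1 := fun h => ha₀K ((hmk1 _).mp h)
  have hz₀q : z₀ ^ q = 1 := by
    show mk ⟨a₀, ha₀P⟩ ^ q = 1
    rw [← map_pow]
    have h1 : (⟨a₀, ha₀P⟩ : ↥P) ^ q = 1 := Subtype.ext (by simpa using ha₀q)
    rw [h1, map_one]
  have hZeq : Subgroup.center (↥P ⧸ K') = Subgroup.zpowers z₀ := by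
    apply le_antisymm
    · intro z hz
      obtain ⟨b, rfl⟩ := hmksurj z
      obtain ⟨j, hj⟩ := hidx b b.2 ((hcenter b).mp hz)
      have h1 : mk b * z₀ ^ j = 1 := by
        show mk b * mk ⟨a₀, ha₀P⟩ ^ j = 1
        rw [← map_pow, ← map_mul, hmk1]
        simpa using hj
      have h2 : mk b = (z₀ ^ j)⁻¹ := eq_inv_of_mul_eq_one_left h1
      rw [h2]
      exact Subgroup.inv_mem _ (Subgroup.pow_mem _ (Subgroup.mem_zpowers z₀) j)
    · exact Subgroup.zpowers_le.mpr hz₀c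
  have hZcard : Nat.card (Subgroup.center (↥P ⧸ K')) = q := by
    rw [hZeq, Nat.card_zpowers]
    exact orderOf_eq_prime hz₀q hz₀1
  -- the module
  letI : CommGroup ↥V₁ :=
    { (inferInstance : Group ↥V₁) with mul_comm := fun a b => Subtype.ext (hVab a a.2 b b.2) }
  let φ : ↥(Subgroup.normalizer (V₁ : Set G)) →* MulAut ↥V₁ :=
    Cfsg.Agent.Lib.Helper48.normConj V₁
  let ι₀ : ↥P →* MulAut ↥V₁ := φ.comp (Subgroup.inclusion hPV)
  have hι₀ : ∀ (b : ↥P) (v : ↥V₁), ((ι₀ b v : ↥V₁) : G) = b * v * (b : G)⁻¹ := fun b v => rfl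
  have hι₀K : K' ≤ ι₀.ker := by
    intro k hk
    rw [MonoidHom.mem_ker]
    ext v
    rw [hι₀]
    have h1 := Subgroup.mem_centralizer_iff.mp (hKV ((hK'mem k).mp hk)) v v.2
    simp only [MulAut.one_apply]
    rw [← h1]
    group
  let i₀ : (↥P ⧸ K') →* MulAut ↥V₁ := QuotientGroup.lift K' ι₀ hι₀K
  have hi₀ : ∀ b : ↥P, i₀ (mk b) = ι₀ b := fun b => QuotientGroup.lift_mk K' hι₀K b
  let xV : ↥(Subgroup.normalizer (V₁ : Set G)) := ⟨x, hxV⟩
  let x₀ : MulAut ↥V₁ := φ xV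
  have hx₀ : ∀ v : ↥V₁, ((x₀ v : ↥V₁) : G) = x * v * x⁻¹ := fun v => rfl
  let S : Set (MulAut ↥V₁) := Set.range i₀ ∪ {x₀}
  let H : Subgroup (MulAut ↥V₁) := Subgroup.closure S
  let ι : (↥P ⧸ K') →* ↥H :=
    i₀.codRestrict H (fun g => Subgroup.subset_closure (Or.inl ⟨g, rfl⟩))
  let xH : ↥H := ⟨x₀, Subgroup.subset_closure (Or.inr rfl)⟩
  have hgen : Subgroup.closure (Set.range ι ∪ {xH}) = ⊤ := by
    have h1 : (Set.range ι ∪ {xH} : Set ↥H) = ((↑) : ↥H → MulAut ↥V₁) ⁻¹' S := by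
      ext y
      simp only [Set.mem_union, Set.mem_range, Set.mem_singleton_iff, Set.mem_preimage, S]
      constructor
      · rintro (⟨g, rfl⟩ | rfl)
        · exact Or.inl ⟨g, rfl⟩
        · exact Or.inr rfl
      · rintro (⟨g, hg⟩ | hy)
        · exact Or.inl ⟨g, Subtype.ext hg⟩
        · exact Or.inr (Subtype.ext hy)
    rw [h1]
    exact Subgroup.closure_closure_coe_preimage
  have hα : ∀ g, xH * ι g * xH⁻¹ = ι (α g) := by
    intro g
    obtain ⟨b, rfl⟩ := hmksurj g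
    apply Subtype.ext
    show x₀ * i₀ (mk b) * x₀⁻¹ = i₀ (α (mk b))
    rw [hαmk, hi₀, hi₀]
    ext v
    show x * ((b : G) * (x⁻¹ * v * x) * (b : G)⁻¹) * x⁻¹ = (x * b * x⁻¹) * v * (x * b * x⁻¹)⁻¹
    group
  have hcardP : ∃ k, Nat.card P = q ^ k := IsPGroup.iff_card.mp hPq
  have hHcop : ¬ p ∣ Nat.card ↥H := by
    obtain ⟨k, hk⟩ := hcardP
    have hcop := coprime_card_of_pgroup hq hr hqr X P hX hPq
    have hsup := Cfsg.Agent.Lib.Helper1.card_sup_of_normalizer_coprime P X hXP hcop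
    have hle : P ⊔ X ≤ Subgroup.normalizer (V₁ : Set G) := sup_le hPV hXV
    let ψ : ↥(P ⊔ X) →* MulAut ↥V₁ := φ.comp (Subgroup.inclusion hle)
    have hHle : H ≤ ψ.range := by
      show Subgroup.closure S ≤ ψ.range
      rw [Subgroup.closure_le]
      rintro y (⟨g, rfl⟩ | rfl)
      · obtain ⟨b, rfl⟩ := hmksurj g
        rw [hi₀]
        exact ⟨⟨b, (le_sup_left : P ≤ P ⊔ X) b.2⟩, rfl⟩
      · exact ⟨⟨x, (le_sup_right : X ≤ P ⊔ X) hxX⟩, rfl⟩
    have h1 : Nat.card ↥H ∣ Nat.card ψ.range := Subgroup.card_dvd_of_le hHle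
    have h2 : Nat.card ψ.range ∣ Nat.card ↥(P ⊔ X) := Subgroup.card_range_dvd ψ
    intro hdvd
    have h3 : p ∣ q ^ k * r := by
      rw [← hk, ← hX, ← hsup]
      exact (hdvd.trans h1).trans h2
    rcases (Nat.Prime.dvd_mul hp).mp h3 with h4 | h4
    · exact hpq ((Nat.prime_dvd_prime_iff_eq hp hq).mp (hp.dvd_of_dvd_pow h4))
    · exact hpr ((Nat.prime_dvd_prime_iff_eq hp hr).mp h4)
  have hQcop : ¬ p ∣ Nat.card (↥P ⧸ K') := by
    obtain ⟨k, hk⟩ := hcardP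
    intro hdvd
    have h1 : Nat.card (↥P ⧸ K') ∣ Nat.card ↥P := Subgroup.card_quotient_dvd_card K'
    rw [hk] at h1
    exact hpq ((Nat.prime_dvd_prime_iff_eq hp hq).mp (hp.dvd_of_dvd_pow (hdvd.trans h1)))
  have hxHr : xH ^ r = 1 := by
    apply Subtype.ext
    have h1 : xV ^ r = 1 := Subtype.ext (by simpa [xV] using hxr)
    show (φ xV) ^ r = 1
    rw [← map_pow, h1, map_one]
  have hexp : ∀ v : ↥V₁, v ^ p = 1 := fun v => Subtype.ext (by simpa using hVexp v v.2)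
  have hfaithZ : ∃ z ∈ Subgroup.center (↥P ⧸ K'), ∃ v : ↥V₁, ι z • v ≠ v := by
    have h0 : ∃ v ∈ V₁, v * a₀ ≠ a₀ * v := by
      by_contra hcon
      push Not at hcon
      exact ha₀V (Subgroup.mem_centralizer_iff.mpr hcon)
    obtain ⟨v, hv, hva⟩ := h0
    refine ⟨z₀, hz₀c, ⟨v, hv⟩, ?_⟩
    intro h
    have h1 : a₀ * v * a₀⁻¹ = v := congrArg Subtype.val h
    apply hva
    calc v * a₀ = (a₀ * v * a₀⁻¹) * a₀ := by rw [h1]
      _ = a₀ * v := by group
  have hfixX : ∀ v : ↥V₁, xH • v = v → v = 1 := by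
    intro v hv
    have h1 : x * (v : G) * x⁻¹ = v := congrArg Subtype.val hv
    apply Subtype.ext
    apply hVfix v v.2
    calc x * (v : G) = (x * v * x⁻¹) * x := by group
      _ = v * x := by rw [h1]
  have hbound := Cfsg.Agent.Lib.Helper97.HH.hh_mul ι xH α hα hgen hp hq hr hpr hHcop hQcop
    hZcard hcomm hαr hαfpf hαZ hxHr hexp hfaithZ hfixX
  have hnabQ : ∃ g h : ↥P ⧸ K', g * h ≠ h * g := by
    obtain ⟨a, ha, b, hb, hab⟩ := hnab
    refine ⟨mk ⟨a, ha⟩, mk ⟨b, hb⟩, ?_⟩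
    intro h
    apply hab
    have h2 : mk (⁅(⟨a, ha⟩ : ↥P), ⟨b, hb⟩⁆) = 1 := by
      rw [commutatorElement_def, map_mul, map_mul, map_mul, map_inv, map_inv, h]
      group
    have h3 := (hmk1 _).mp h2
    simpa [commutatorElement_def] using h3
  exact fermat_of_bound hq hr hqr hZcard hcomm hnabQ α hαr
    (fun g hg => hαfpf g (by rw [hg, inv_mul_cancel]; exact Subgroup.one_mem _)) hαZ hbound

end Cfsg.Agent.Lib.Helper54
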